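import Cfsg.Agent.H43.Bal.Abstract
import Cfsg.Agent.H10.Basic
import Mathlib

/-!
# The `p'`-core of a centraliser in terms of a fixed subgroup without `p'`-core

A variant of `H43.Bal.core_ne_bot_iff` which does not ask the fixed subgroup to be simple, and the
parity of the number of fixed points of an involutory automorphism.
-/

set_option autoImplicit false

namespace H51.SUBal

open H43.Bal (aut_conj conj_mem_centralizer eq_one_of_coprime)

variable {G : Type*} [Group G]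

theorem core_iff [Finite G] (hinj : Function.Injective (MulAut.conj : G → MulAut G))
    {p : ℕ} [Fact p.Prime] {φ : MulAut G} (A : Subgroup (MulAut G)) (hinn : ∀ k, MulAut.conj k ∈ A)
    (S : Subgroup G) (hfix : ∀ s ∈ S, φ s = s) (hne : S ≠ ⊥)
    (hnorm : ∀ c, φ c = c → ∀ s ∈ S, c * s * c⁻¹ ∈ S)
    (hsub : p ∣ Nat.card ↥(MonoidHom.eqLocus φ.toMonoidHom (MonoidHom.id G)) →
      ∀ N : Subgroup G, N ≤ S → (∀ s ∈ S, ∀ x ∈ N, s * x * s⁻¹ ∈ N) →
        (Nat.card N).Coprime p → N = ⊥)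
    (hcent : ∀ α : MulAut G, (∀ s ∈ S, α s = s) → α ^ p = 1) :
    Cfsg.pPrimeCore p ↥(A ⊓ Subgroup.centralizer {φ}) ≠ ⊥ ↔
      Nat.Coprime p (Nat.card ↥(MonoidHom.eqLocus φ.toMonoidHom (MonoidHom.id G))) := by
  classical
  haveI : Finite (MulAut G) := Finite.of_injective (fun α => (α : G → G)) DFunLike.coe_injective
  set C := MonoidHom.eqLocus φ.toMonoidHom (MonoidHom.id G)
  set D := A ⊓ Subgroup.centralizer ({φ} : Set (MulAut G))
  have hCD : ∀ y ∈ C, MulAut.conj y ∈ D := fun y hy => ⟨hinn y, (conj_mem_centralizer hinj y).2 hy⟩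
  have hDC : ∀ d ∈ D, ∀ y ∈ C, d y ∈ C := by
    intro d hd y hy
    have hd' := Subgroup.mem_centralizer_singleton_iff.1 hd.2
    show φ (d y) = d y
    calc φ (d y) = (φ * d) y := rfl
      _ = (d * φ) y := by rw [hd']
      _ = d y := congrArg d hy
  constructor
  swap
  · intro hcop hbot
    set L := (C.map MulAut.conj).subgroupOf D
    have hL : L.Normal := by
      refine ⟨fun x hx d => ?_⟩
      obtain ⟨y, hy, hxy⟩ := Subgroup.mem_subgroupOf.1 hx
      refine Subgroup.mem_subgroupOf.2 ⟨(d : MulAut G) y, hDC _ d.2 y hy, ?_⟩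
      rw [← aut_conj, hxy]
      rfl
    have hle : L ≤ Cfsg.pPrimeCore p D := H10.le_pPrimeCore hL (by
      rw [Nat.card_congr (Subgroup.subgroupOfEquivOfLe (by rintro _ ⟨y, hy, rfl⟩; exact hCD y hy)).toEquiv,
        ← Nat.card_congr (Subgroup.equivMapOfInjective C _ hinj).toEquiv]
      exact hcop.symm)
    rw [hbot, le_bot_iff] at hle
    obtain ⟨s, hs, hs1⟩ := S.bot_or_exists_ne_one.resolve_left hne
    have h1 : (⟨MulAut.conj s, hCD s (hfix s hs)⟩ : D) ∈ L :=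
      Subgroup.mem_subgroupOf.2 ⟨s, hfix s hs, rfl⟩
    rw [hle, Subgroup.mem_bot] at h1
    exact hs1 (hinj ((congrArg Subtype.val h1).trans (map_one MulAut.conj).symm))
  intro hcore
  by_contra hcop
  apply hcore
  have hpC : p ∣ Nat.card C := (Fact.out : p.Prime).dvd_iff_not_coprime.2 hcop
  set N := (Cfsg.pPrimeCore p D).map D.subtype
  have hN : (Nat.card N).Coprime p :=
    Nat.Coprime.coprime_dvd_left (Subgroup.card_map_dvd _ _) H10.pPrimeCore_coprime
  have hNconj : ∀ d ∈ D, ∀ x ∈ N, d * x * d⁻¹ ∈ N := by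
    rintro d hd _ ⟨x, hx, rfl⟩
    exact ⟨⟨d, hd⟩ * x * ⟨d, hd⟩⁻¹, H10.pPrimeCore_normal.conj_mem _ hx _, rfl⟩
  set P := N.comap (MulAut.conj : G →* MulAut G) ⊓ C
  have hPconj : ∀ c ∈ C, ∀ x ∈ P, c * x * c⁻¹ ∈ P := by
    rintro c hc x ⟨hxN, hxC⟩
    refine ⟨?_, C.mul_mem (C.mul_mem hc hxC) (C.inv_mem hc)⟩
    show MulAut.conj (c * x * c⁻¹) ∈ N
    rw [map_mul, map_mul, map_inv]
    exact hNconj _ (hCD c hc) _ hxN
  have hSC : ∀ s ∈ S, s ∈ C := hfix
  have hPS : P ⊓ S = ⊥ := by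
    refine hsub hpC (P ⊓ S) inf_le_right (fun s hs n hn =>
      ⟨hPconj s (hSC s hs) n hn.1, S.mul_mem (S.mul_mem hs hn.2) (S.inv_mem hs)⟩) ?_
    refine Nat.Coprime.coprime_dvd_left ?_ hN
    rw [Nat.card_congr (Subgroup.equivMapOfInjective (P ⊓ S) (MulAut.conj : G →* MulAut G) hinj).toEquiv]
    refine Subgroup.card_dvd_of_le ?_
    rintro _ ⟨x, hx, rfl⟩
    exact hx.1.1
  have hP : ∀ y ∈ P, y = 1 := by
    intro y hy
    have hys : ∀ s ∈ S, MulAut.conj y s = s := by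
      intro s hs
      have h1 : y * s * y⁻¹ * s⁻¹ ∈ P ⊓ S := by
        refine ⟨?_, S.mul_mem (hnorm y hy.2 s hs) (S.inv_mem hs)⟩
        rw [show y * s * y⁻¹ * s⁻¹ = y * (s * y⁻¹ * s⁻¹) by group]
        exact P.mul_mem hy (hPconj s (hSC s hs) _ (P.inv_mem hy))
      rw [hPS, Subgroup.mem_bot, mul_inv_eq_one] at h1
      exact h1
    exact hinj ((eq_one_of_coprime hN hy.1 (hcent _ hys)).trans (map_one MulAut.conj).symm)
  rw [eq_bot_iff]
  intro x hx
  rw [Subgroup.mem_bot]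
  have hxN : (x : MulAut G) ∈ N := ⟨x, hx, rfl⟩
  have hxs : ∀ s ∈ S, (x : MulAut G) s = s := by
    intro s hs
    have h1 : (x : MulAut G) s * s⁻¹ ∈ P := by
      refine ⟨?_, C.mul_mem (hDC _ x.2 s (hSC s hs)) (C.inv_mem (hSC s hs))⟩
      show MulAut.conj ((x : MulAut G) s * s⁻¹) ∈ N
      rw [map_mul, map_inv, ← aut_conj, show (x : MulAut G) * MulAut.conj s * (x : MulAut G)⁻¹ *
        (MulAut.conj s)⁻¹ = (x : MulAut G) * (MulAut.conj s * (x : MulAut G)⁻¹ * (MulAut.conj s)⁻¹) by group]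
      exact N.mul_mem hxN (hNconj _ (hCD s (hSC s hs)) _ (N.inv_mem hxN))
    exact mul_inv_eq_one.1 (hP _ h1)
  exact Subtype.ext (eq_one_of_coprime hN hxN (hcent _ hxs))

/-- An involutory automorphism of a finite group of even order fixes an involution. -/
theorem two_dvd_card_eqLocus [Finite G] (x : MulAut G) (hx : x ^ 2 = 1) (hG : 2 ∣ Nat.card G) :
    2 ∣ Nat.card ↥(MonoidHom.eqLocus x.toMonoidHom (MonoidHom.id G)) := by
  classical
  haveI : Fact (Nat.Prime 2) := ⟨Nat.prime_two⟩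
  haveI : Fintype G := Fintype.ofFinite G
  rw [Nat.card_eq_fintype_card] at hG
  have hxx : ∀ g, x (x g) = g := fun g => by
    have h1 := congrArg (fun y : MulAut G => y g) hx
    rwa [pow_two] at h1
  -- the elements killed by squaring form a set of even size permuted by `x`
  let T : Set G := {g | g ^ 2 = 1}
  have hT : Fintype.card G ≡ Fintype.card T [MOD 2] := by
    let σ : Function.End G := fun g => g⁻¹
    have hσ : σ ^ 2 ^ 1 = 1 := funext fun g => inv_inv g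
    refine (Equiv.Perm.card_fixedPoints_modEq (p := 2) hσ).trans (?_ : Fintype.card _ % 2 = Fintype.card T % 2)
    refine congrArg (· % 2) (Fintype.card_congr (Equiv.subtypeEquivRight fun g => ?_))
    show g⁻¹ = g ↔ g ^ 2 = 1
    rw [pow_two, mul_eq_one_iff_inv_eq]
  have hT' : Fintype.card T ≡ 0 [MOD 2] := hT.symm.trans (Nat.modEq_zero_iff_dvd.2 hG)
  let σ : Function.End T := fun g => ⟨x g.1, show x g.1 ^ 2 = 1 by rw [← map_pow, g.2, map_one]⟩
  have hσ : σ ^ 2 ^ 1 = 1 := funext fun g => Subtype.ext (hxx g.1)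
  have h1 := (Equiv.Perm.card_fixedPoints_modEq (p := 2) hσ).symm.trans hT'
  rw [Nat.modEq_zero_iff_dvd] at h1
  have hone : (⟨1, show (1 : G) ^ 2 = 1 from one_pow 2⟩ : T) ∈ Function.fixedPoints σ :=
    Subtype.ext (map_one x)
  obtain ⟨⟨⟨g, hg⟩, hgx⟩, hne⟩ := Fintype.exists_ne_of_one_lt_card
    (lt_of_lt_of_le one_lt_two (Nat.le_of_dvd (Fintype.card_pos_iff.2 ⟨⟨_, hone⟩⟩) h1))
    (⟨_, hone⟩ : Function.fixedPoints σ)
  have hgC : g ∈ MonoidHom.eqLocus x.toMonoidHom (MonoidHom.id G) := congrArg Subtype.val hgx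
  have hg1 : (⟨g, hgC⟩ : MonoidHom.eqLocus x.toMonoidHom (MonoidHom.id G)) ≠ 1 := fun e =>
    hne (Subtype.ext (Subtype.ext (congrArg Subtype.val e :)))
  have ho : orderOf (⟨g, hgC⟩ : MonoidHom.eqLocus x.toMonoidHom (MonoidHom.id G)) = 2 :=
    orderOf_eq_prime (Subtype.ext hg) hg1
  exact ho ▸ orderOf_dvd_natCard _

end H51.SUBal
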