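import Cfsg.Agent.H51.SUBal.FieldRigid
import Cfsg.Agent.H50.Simple
import Cfsg.Agent.H55.PSUGraphCount
import Mathlib

/-!
The image of the unitary group over a subfield in `PSU_n(q)`: it has no normal subgroup of order
prime to an odd prime dividing its order.
-/

set_option autoImplicit false

namespace H51.SUBal

open Matrix H55 H55.Psu
open H50 (suMat guMat IsHyp)

section Sub

variable {n : ℕ} {K : Type*} [Field K] {q₀ : ℕ}

/-- A diagonal element `diag(ζ, ζ⁻¹, 1, …)` of `SU`. -/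
theorem exists_diag (hn : 3 ≤ n) {ζ : K} (hζ : ζ * ζ ^ q₀ = 1) :
    ∃ d : Cfsg.SU n K q₀, suMat d = diagonal
      (fun i : Fin n => (if i = ⟨0, by omega⟩ then ζ else 1) * (if i = ⟨1, by omega⟩ then ζ⁻¹ else 1)) := by
  have hζ0 : ζ ≠ 0 := left_ne_zero_of_mul_eq_one hζ
  have hζi : ζ⁻¹ * ζ⁻¹ ^ q₀ = 1 := by rw [inv_pow, ← mul_inv, hζ, inv_one]
  set D : Fin n → K := fun i => (if i = ⟨0, by omega⟩ then ζ else 1) * (if i = ⟨1, by omega⟩ then ζ⁻¹ else 1)
  have hD : ∀ i, D i * D i ^ q₀ = 1 := by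
    intro i
    have h1 : ∀ (P : Prop) [Decidable P] (c : K), c * c ^ q₀ = 1 →
        (if P then c else 1) * (if P then c else 1) ^ q₀ = 1 := by
      intro P _ c hc
      split_ifs
      · exact hc
      · rw [one_pow, one_mul]
    simp only [D]
    rw [mul_pow, mul_mul_mul_comm, h1 _ _ hζ, h1 _ _ hζi, one_mul]
  refine ⟨H50.mkSU (diagonal D) (fun u v => ?_) ?_, rfl⟩
  · simp only [Cfsg.hermForm, mulVec_diagonal]
    refine Finset.sum_congr rfl fun i _ => ?_
    rw [mul_pow, mul_mul_mul_comm, hD, one_mul]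
  · rw [det_diagonal]
    simp only [D, Finset.prod_mul_distrib, Finset.prod_ite_eq', Finset.mem_univ, if_true]
    exact mul_inv_cancel₀ hζ0

variable [Fintype K] (hK : Fintype.card K = q₀ ^ 2)

include hK in
theorem exists_root_unit {p : ℕ} [Fact p.Prime] (hp : p ∣ q₀ + 1) :
    ∃ ζ : K, ζ * ζ ^ q₀ = 1 ∧ ζ ^ p = 1 ∧ ζ ≠ 1 := by
  obtain ⟨u, hu⟩ := exists_prime_orderOf_dvd_card' (G := normOne K q₀) p
    (by rw [show Nat.card (normOne K q₀) = q₀ + 1 from H50.natCard_norm_ker hK]; exact hp)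
  refine ⟨((u : Kˣ) : K), mem_normOne.1 u.2, ?_, fun h => ?_⟩
  · rw [← Units.val_pow_eq_pow_val, ← SubmonoidClass.coe_pow, ← hu, pow_orderOf_eq_one]
    rfl
  · rw [show u = 1 from Subtype.ext (Units.ext h), orderOf_one] at hu
    exact (Fact.out : p.Prime).ne_one hu.symm

include hK in
/-- A normal subgroup of `SU` fixing all isotropic points is central, the others act transitively. -/
theorem normal_center_or_trans (hn : 3 ≤ n) (N : Subgroup (Cfsg.SU n K q₀)) [N.Normal] :
    N ≤ Subgroup.center (Cfsg.SU n K q₀) ∨ MulAction.IsPretransitive N (H50.IsoPt n q₀ K) := by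
  haveI := H50.isoPt_preprimitive hK hn
  by_cases h : MulAction.fixedPoints N (H50.IsoPt n q₀ K) = Set.univ
  · left
    intro g hg
    refine (H50.mem_center_iff_scalar hK (by omega)).2 ?_
    obtain ⟨l, -, hl⟩ := H50.scalar_of_isotropic_eigen hK (by omega) (H50.SU_isIso g)
      (fun u hu huu => by
        obtain ⟨a, ha⟩ := H50.smul_isoPt_eq.1
          ((Set.eq_univ_iff_forall.1 h (H50.IsoPt.mk u hu huu)) ⟨g, hg⟩)
        exact ⟨a, ha.symm⟩)
    exact ⟨l, hl⟩
  · exact Or.inr (MulAction.IsQuasiPreprimitive.isPretransitive_of_normal h)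

end Sub

variable {F : Type*} [Field F] [Fintype F] {n q : ℕ} (hF : Fintype.card F = q ^ 2)
variable {K : Type*} [Field K] [Fintype K] {q₀ : ℕ} (hK : Fintype.card K = q₀ ^ 2) (f : K →+* F)
  (hf : ∀ x, f x ^ q = f (x ^ q₀))

/-- An element of `SU` inside `GU`. -/
def suGU {F : Type*} [Field F] {n q : ℕ} (s : Cfsg.SU n F q) : Cfsg.GU n F q :=
  ⟨Matrix.SpecialLinearGroup.toGL s.1, s.2⟩

omit [Fintype F] in
theorem guMat_suGU (s : Cfsg.SU n F q) : guMat (suGU s) = suMat s := rfl

include hF in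
theorem conjPu_suGU (s : Cfsg.SU n F q) : conjPu (suGU s) = MulAut.conj (umk s) := toGU_conj hF s

/-- Extension of scalars on the special unitary group. -/
noncomputable def baseSU : Cfsg.SU n K q₀ →* Cfsg.SU n F q where
  toFun s := H50.mkSU ((suMat s).map f)
    (by
      have h := H50.GU_isIso (baseGU hF hK f hf (suGU s))
      exact h)
    (by
      have h := RingHom.map_det f (suMat s)
      rw [show (suMat s).det = 1 from s.1.2, map_one] at h
      exact h.symm)
  map_one' := H50.SU_ext (Matrix.map_one f (map_zero f) (map_one f))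
  map_mul' a b := H50.SU_ext (Matrix.map_mul (f := f) (L := suMat a) (M := suMat b))

theorem suMat_baseSU (s : Cfsg.SU n K q₀) : suMat (baseSU hF hK f hf s) = (suMat s).map f := rfl

include hF hK hf in
theorem baseSU_tv {v : Fin n → K} (hv : Cfsg.hermForm n K q₀ v v = 0) {a : K} (ha : a + a ^ q₀ = 0) :
    baseSU hF hK f hf (H50.tv hK v a hv ha) =
      H50.tv hF (bv f v) (f a) (by rw [h_bv f hf, hv, map_zero]) (tz_bv f hf ha) := by
  refine H50.SU_ext ?_
  show (Cfsg.unitaryTransvection n q₀ v a).map f = Cfsg.unitaryTransvection n q (bv f v) (f a)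
  ext i j
  by_cases hij : i = j <;> simp [Cfsg.unitaryTransvection, bv, hf, vecMulVec, hij]

/-- The map of the subfield group into `PSU`. -/
noncomputable def baseP : Cfsg.SU n K q₀ →* Cfsg.PSU n F q := umk.comp (baseSU hF hK f hf)

theorem baseP_eq_one_iff (hn : 2 ≤ n) (s : Cfsg.SU n K q₀) :
    baseP hF hK f hf s = 1 ↔ s ∈ Subgroup.center (Cfsg.SU n K q₀) := by
  show umk (baseSU hF hK f hf s) = 1 ↔ _
  rw [show (umk (baseSU hF hK f hf s) = 1) ↔ baseSU hF hK f hf s ∈ Subgroup.center (Cfsg.SU n F q)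
    from QuotientGroup.eq_one_iff _]
  constructor
  · intro h
    obtain ⟨a, -, ha⟩ := H50.scalar_of_mem_center hF hn h
    rw [suMat_baseSU] at ha
    let i : Fin n := ⟨0, by omega⟩
    refine (H50.mem_center_iff_scalar hK hn).2 ?_
    have hb : f (suMat s i i) = a := by simpa using congrFun (congrFun ha i) i
    have hs : suMat s = suMat s i i • (1 : Matrix (Fin n) (Fin n) K) := by
      refine Matrix.map_injective f.injective ?_
      show (suMat s).map f = (suMat s i i • (1 : Matrix (Fin n) (Fin n) K)).map f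
      rw [ha, ← hb]
      ext x y
      by_cases hxy : x = y <;> simp [hxy]
    exact ⟨_, hs⟩
  · intro h
    obtain ⟨b, -, hb⟩ := H50.scalar_of_mem_center hK hn h
    refine (H50.mem_center_iff_scalar hF hn).2 ⟨f b, ?_⟩
    rw [suMat_baseSU, hb]
    ext x y
    by_cases hxy : x = y <;> simp [hxy]

variable {p : ℕ} [Fact p.Prime]

theorem dvd_card_range_of_dvd (hn : 3 ≤ n) (hp : p ∣ q₀ + 1) :
    p ∣ Nat.card (baseP (n := n) hF hK f hf).range := by
  obtain ⟨ζ, hζ, hζp, hζ1⟩ := exists_root_unit hK hp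
  obtain ⟨d, hd⟩ := exists_diag hn hζ
  have hdp : d ^ p = 1 := by
    refine H50.SU_ext ?_
    show suMat (d ^ p) = suMat (1 : Cfsg.SU n K q₀)
    have : ∀ k, suMat (d ^ k) = suMat d ^ k := by
      intro k
      induction k with
      | zero => rfl
      | succ k ih => rw [pow_succ, pow_succ, H50.suMat_mul, ih]
    rw [this, hd, diagonal_pow, H50.suMat_one, ← diagonal_one]
    congr 1
    funext i
    simp [mul_pow, ite_pow, hζp]
  have hne : baseP hF hK f hf d ≠ 1 := by
    rw [ne_eq, baseP_eq_one_iff hF hK f hf (by omega)]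
    intro hc
    obtain ⟨b, -, hb⟩ := H50.scalar_of_mem_center hK (by omega) hc
    rw [hd] at hb
    have e0 := congrFun (congrFun hb ⟨0, by omega⟩) ⟨0, by omega⟩
    have e2 := congrFun (congrFun hb ⟨2, by omega⟩) ⟨2, by omega⟩
    simp [Fin.ext_iff] at e0 e2
    exact hζ1 (e0.trans e2.symm)
  have ho : orderOf (⟨baseP hF hK f hf d, ⟨d, rfl⟩⟩ : (baseP (n := n) hF hK f hf).range) = p :=
    orderOf_eq_prime (Subtype.ext (by
      rw [SubmonoidClass.coe_pow, OneMemClass.coe_one, ← map_pow, hdp, map_one]))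
      fun e => hne (congrArg Subtype.val e)
  exact ho ▸ orderOf_dvd_natCard _

/-- `PSU_3(2)` has no nontrivial normal subgroup of order prime to three. -/
theorem small_core (hn : n = 3) (hq : q₀ = 2) (hp : p = 3) (N : Subgroup (Cfsg.PSU n F q))
    (hNle : N ≤ (baseP hF hK f hf).range)
    (hN : ∀ s ∈ (baseP hF hK f hf).range, ∀ x ∈ N, s * x * s⁻¹ ∈ N)
    (hcop : (Nat.card N).Coprime p) : N = ⊥ := by
  classical
  set N' := N.comap (baseP hF hK f hf) with hN'
  haveI : N'.Normal := ⟨fun x hx g => by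
    show baseP hF hK f hf (g * x * g⁻¹) ∈ N
    rw [map_mul, map_mul, map_inv]
    exact hN _ ⟨g, rfl⟩ _ hx⟩
  rcases normal_center_or_trans hK (by omega) N' with h | htr
  · rw [eq_bot_iff]
    intro y hy
    obtain ⟨s, rfl⟩ := hNle hy
    exact (baseP_eq_one_iff hF hK f hf (by omega) s).2 (h hy)
  exfalso
  subst hn hq hp
  haveI : Fact (Nat.Prime 3) := ⟨Nat.prime_three⟩
  obtain ⟨ζ, hζ, hζp, hζ1⟩ := exists_root_unit (p := 3) hK (dvd_refl 3)
  obtain ⟨d, hd⟩ := exists_diag le_rfl hζ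
  haveI : Finite (H50.IsoPt 3 2 K) := by
    unfold H50.IsoPt
    haveI : Finite (Projectivization K (Fin 3 → K)) := Quotient.finite _
    infer_instance
  haveI : Fintype (H50.IsoPt 3 2 K) := Fintype.ofFinite _
  -- an element of order three moves every isotropic point
  let σ : Function.End (H50.IsoPt 3 2 K) := fun x => d • x
  have hdp : d ^ 3 = 1 := by
    refine H50.suMat_ext fun v => ?_
    rw [pow_three, H50.suMat_mulVec_mul, H50.suMat_mulVec_mul, hd, H50.suMat_one, one_mulVec]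
    funext i
    simp only [mulVec_diagonal]
    rw [← mul_assoc, ← mul_assoc, ← pow_three', mul_pow, ite_pow, ite_pow, one_pow, inv_pow, hζp,
      inv_one, ite_self, ite_self, one_mul, one_mul]
  have hσ : σ ^ 3 ^ 1 = 1 := by
    funext x
    show d • (d • (d • x)) = x
    rw [smul_smul, smul_smul, ← pow_three', hdp, one_smul]
  have hno : IsEmpty (Function.fixedPoints σ) := ⟨fun ⟨x, hx⟩ => by
    obtain ⟨v, hv, hvv, rfl⟩ := x.exists_mk
    obtain ⟨a, ha⟩ := H50.smul_isoPt_eq.1 (hx : d • _ = _)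
    rw [hd] at ha
    have e : ∀ i, a = (if i = (0 : Fin 3) then ζ else 1) * (if i = (1 : Fin 3) then ζ⁻¹ else 1) ∨ v i = 0 := by
      intro i
      have h := congrFun ha i
      rw [Pi.smul_apply, smul_eq_mul, mulVec_diagonal] at h
      exact (mul_eq_mul_right_iff.1 h)
    have hζ0 : ζ ≠ 0 := left_ne_zero_of_mul_eq_one hζ
    have hζ2 : ζ ≠ ζ⁻¹ := fun h => hζ1 (by
      have : ζ * ζ = 1 := by nth_rewrite 2 [h]; exact mul_inv_cancel₀ hζ0
      rwa [pow_three, this, mul_one] at hζp)
    have hζ3 : ζ⁻¹ ≠ 1 := fun h => hζ1 (inv_eq_one.1 h)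
    have two : ∀ {i j : Fin 3} {c c' : K}, c ≠ c' → (a = c ∨ v i = 0) → (a = c' ∨ v j = 0) →
        v i = 0 ∨ v j = 0 := by
      intro i j c c' hne h1 h2
      rcases h1 with h1 | h1
      · rcases h2 with h2 | h2
        · exact absurd (h1.symm.trans h2) hne
        · exact Or.inr h2
      · exact Or.inl h1
    have d0 : a = ζ ∨ v 0 = 0 := by simpa using e 0
    have d1 : a = ζ⁻¹ ∨ v 1 = 0 := by simpa using e 1
    have d2 : a = 1 ∨ v 2 = 0 := by simpa using e 2
    have h01 := two hζ2 d0 d1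
    have h02 := two hζ1 d0 d2
    have h12 := two hζ3 d1 d2
    have hz : ∀ i j : Fin 3, i ≠ j → v i = 0 → v j = 0 → v = 0 := by
      intro i j hij hi hj
      funext k
      by_cases hki : k = i
      · rw [hki]; exact hi
      by_cases hkj : k = j
      · rw [hkj]; exact hj
      have h3 := hvv
      simp only [Cfsg.hermForm, Fin.sum_univ_three] at h3
      fin_cases i <;> fin_cases j <;> fin_cases k <;> simp_all
    rcases h01 with h | h
    · rcases h12 with h' | h'
      · exact hv (hz 0 1 (by decide) h h')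
      · exact hv (hz 0 2 (by decide) h h')
    · rcases h02 with h' | h'
      · exact hv (hz 1 0 (by decide) h h')
      · exact hv (hz 1 2 (by decide) h h')⟩
  have h3 := Equiv.Perm.card_fixedPoints_modEq (p := 3) hσ
  rw [Fintype.card_eq_zero (α := Function.fixedPoints σ), Nat.modEq_zero_iff_dvd] at h3
  -- but the orbit has size prime to three
  obtain ⟨x⟩ : Nonempty (H50.IsoPt 3 2 K) := by
    obtain ⟨e, he0, he⟩ := H50.exists_isotropic hK (show 2 ≤ 3 by omega)
    exact ⟨H50.IsoPt.mk e he0 he⟩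
  let ψ : N' →* N := ((baseP hF hK f hf).comp N'.subtype).codRestrict N fun g => g.2
  have hker : ψ.ker ≤ MulAction.stabilizer N' x := by
    intro g hg
    have hc := (baseP_eq_one_iff hF hK f hf (by omega) (g : Cfsg.SU 3 K 2)).1 (congrArg Subtype.val hg)
    obtain ⟨l, -, hl⟩ := H50.scalar_of_mem_center hK (by omega) hc
    obtain ⟨v, hv, hvv, rfl⟩ := x.exists_mk
    refine H50.smul_isoPt_eq.2 ⟨l, ?_⟩
    rw [hl, smul_mulVec, one_mulVec]
  have hidx : (MulAction.stabilizer N' x).index ∣ Nat.card N := by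
    refine (Subgroup.index_dvd_of_le hker).trans ?_
    rw [Subgroup.index_ker]
    exact Subgroup.card_subgroup_dvd_card _
  rw [MulAction.index_stabilizer_of_transitive, Nat.card_eq_fintype_card] at hidx
  have h4 : 3 ∣ Nat.card N := h3.trans hidx
  have h5 : 3 ∣ Nat.gcd (Nat.card N) 3 := Nat.dvd_gcd h4 (dvd_refl 3)
  rw [hcop] at h5
  exact absurd h5 (by decide)

/-- A simple image: no proper normal subgroup. -/
theorem simple_core (hn : 3 ≤ n) (h32 : ¬ (n = 3 ∧ q₀ = 2)) (N : Subgroup (Cfsg.PSU n F q))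
    (hNle : N ≤ (baseP hF hK f hf).range)
    (hN : ∀ s ∈ (baseP hF hK f hf).range, ∀ x ∈ N, s * x * s⁻¹ ∈ N) :
    N = ⊥ ∨ N = (baseP hF hK f hf).range := by
  set N' := N.comap (baseP hF hK f hf) with hN'
  haveI : N'.Normal := ⟨fun x hx g => by
    show baseP hF hK f hf (g * x * g⁻¹) ∈ N
    rw [map_mul, map_mul, map_inv]
    exact hN _ ⟨g, rfl⟩ _ hx⟩
  haveI := H50.PSU_isSimple hK hn h32
  have hZ : Subgroup.center (Cfsg.SU n K q₀) ≤ N' := fun z hz => by
    show baseP hF hK f hf z ∈ N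
    rw [(baseP_eq_one_iff hF hK f hf (by omega) z).2 hz]
    exact one_mem _
  rcases (Subgroup.Normal.map ‹N'.Normal› (QuotientGroup.mk' (Subgroup.center (Cfsg.SU n K q₀)))
    (QuotientGroup.mk'_surjective _)).eq_bot_or_eq_top with h | h
  · left
    rw [eq_bot_iff]
    intro y hy
    obtain ⟨s, rfl⟩ := hNle hy
    rw [Subgroup.map_eq_bot_iff, QuotientGroup.ker_mk'] at h
    exact (baseP_eq_one_iff hF hK f hf (by omega) s).2 (h hy)
  · right
    refine le_antisymm hNle ?_
    rintro _ ⟨s, rfl⟩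
    have h1 := congrArg (Subgroup.comap (QuotientGroup.mk' (Subgroup.center (Cfsg.SU n K q₀)))) h
    rw [Subgroup.comap_map_eq, QuotientGroup.ker_mk', Subgroup.comap_top, sup_eq_left.2 hZ] at h1
    have h2 : s ∈ N' := h1 ▸ Subgroup.mem_top s
    exact h2

end H51.SUBal
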