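import Cfsg.Agent.H51.SUBal.Abstract
import Cfsg.Agent.H51.SUBal.FieldBase
import Cfsg.Agent.H43.Bal.Transport
import Cfsg.Agent.H48.LocalBalance
import Cfsg.Agent.H50.SU32Struct
import Mathlib

/-!
Local balance at field automorphisms of odd prime order of `PSU_n(q)`.
-/

set_option autoImplicit false

namespace H51.SUBal

open Matrix H55 H55.Psu
open H50 (suMat guMat IsHyp)
open H43.Bal (conj_mem_centralizer)

variable {F : Type*} [Field F] [Fintype F] {n q : ℕ} (hF : Fintype.card F = q ^ 2)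
include hF

theorem not_32 (hK : IsSimpleGroup (Cfsg.PSU n F q)) : ¬ (n = 3 ∧ q = 2) := by
  rintro ⟨rfl, rfl⟩
  obtain ⟨N, hN, hN9, -, -, -, h72⟩ := H50.SU32S.structure_PSU32 (F := F) (by rw [hF]; norm_num)
  rcases hN.eq_bot_or_eq_top with h | h
  · rw [h, Subgroup.card_bot] at hN9; norm_num at hN9
  · rw [h, Subgroup.card_top, h72] at hN9; norm_num at hN9

theorem conj_inj (hn : 3 ≤ n) (hK : IsSimpleGroup (Cfsg.PSU n F q)) :
    Function.Injective (MulAut.conj : Cfsg.PSU n F q → MulAut (Cfsg.PSU n F q)) := by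
  show Function.Injective (MulAut.conj : Cfsg.PSU n F q →* MulAut (Cfsg.PSU n F q))
  rw [injective_iff_map_eq_one]
  intro x hx
  have hc : x ∈ Subgroup.center (Cfsg.PSU n F q) := by
    rw [Subgroup.mem_center_iff]
    intro y
    have h1 := DFunLike.congr_fun hx y
    rw [MulAut.conj_apply, MulAut.one_apply, mul_inv_eq_iff_eq_mul] at h1
    exact h1.symm
  rcases (inferInstance : (Subgroup.center (Cfsg.PSU n F q)).Normal).eq_bot_or_eq_top with h | h
  · rwa [h, Subgroup.mem_bot] at hc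
  exfalso
  have h1 : ⁅(⊤ : Subgroup (Cfsg.PSU n F q)), (⊤ : Subgroup (Cfsg.PSU n F q))⁆ = ⊥ := by
    rw [Subgroup.commutator_eq_bot_iff_le_centralizer]
    intro y _ z _
    exact Subgroup.mem_center_iff.1 (h ▸ Subgroup.mem_top y) z
  have h2 : ((⊤ : Subgroup (Cfsg.SU n F q))).map umk = ⊤ :=
    Subgroup.map_top_of_surjective _ umk_surjective
  rw [← h2, ← Subgroup.map_commutator, ← commutator_def, H50.SU_perfect hF hn (not_32 hF hK), h2] at h1
  haveI : Nontrivial (Subgroup (Cfsg.PSU n F q)) := inferInstance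
  exact (top_ne_bot : (⊤ : Subgroup (Cfsg.PSU n F q)) ≠ ⊥) h1

/-- The subfield attached to a field automorphism of odd order. -/
theorem exists_subfield {σ : F ≃+* F} (hodd : Odd (orderOf σ)) :
    ∃ q₀ : ℕ, Nat.card (fixF σ) = q₀ ^ 2 ∧ q = q₀ ^ orderOf σ := by
  obtain ⟨p, hp⟩ := CharP.exists F
  obtain ⟨⟨m, hm⟩, hpp, hcard⟩ := FiniteField.card F p
  have hF' : Nat.card F = p ^ m := by rw [Nat.card_eq_fintype_card]; exact hcard
  obtain ⟨hd, hK⟩ := card_fixF_eq hpp hF' σ
  obtain ⟨a, -, ha⟩ := (Nat.dvd_prime_pow hpp).1 (show q ∣ p ^ m by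
    rw [← hF', Nat.card_eq_fintype_card, hF]; exact dvd_pow_self _ two_ne_zero)
  have hm2 : m = 2 * a := by
    rw [Nat.card_eq_fintype_card, hF, ha, ← pow_mul] at hF'
    have := Nat.pow_right_injective hpp.two_le hF'
    omega
  obtain ⟨b, hb⟩ := hd
  have hb' : m / orderOf σ = b := by rw [hb]; exact Nat.mul_div_cancel_left _ (orderOf_pos' σ)
  obtain ⟨c, hc⟩ : 2 ∣ b := by
    have : 2 ∣ orderOf σ * b := ⟨a, by rw [← hb, hm2]⟩
    exact (Nat.prime_two.dvd_mul.1 this).resolve_left hodd.not_two_dvd_nat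
  refine ⟨p ^ c, by rw [hK, hb', hc, ← pow_mul, mul_comm], ?_⟩
  rw [ha, ← pow_mul]
  congr 1
  rw [hm2, hc] at hb
  linarith [hb]

variable {K : Type*} [Field K] [Fintype K] {q₀ : ℕ} (hK : Fintype.card K = q₀ ^ 2) (f : K →+* F)
  (hf : ∀ x, f x ^ q = f (x ^ q₀))
include hK hf

/-- The criterion at a standard field automorphism of odd prime order. -/
theorem field_std (hn : 3 ≤ n) (hG : IsSimpleGroup (Cfsg.PSU n F q)) {p : ℕ} [Fact p.Prime]
    (hp2 : p ≠ 2) {σ : F ≃+* F} (hσ : orderOf σ = p) (hfix : ∀ x, σ x = x ↔ x ∈ f.range)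
    (hcard : Nat.card (fixF σ) = q₀ ^ 2) (hq : q = q₀ ^ orderOf σ)
    (A : Subgroup (MulAut (Cfsg.PSU n F q))) (hinn : ∀ k, MulAut.conj k ∈ A) :
    Cfsg.pPrimeCore p ↥(A ⊓ Subgroup.centralizer ({fieldPu σ} : Set (MulAut (Cfsg.PSU n F q)))) ≠ ⊥ ↔
      Nat.Coprime p (Nat.card ↥(MonoidHom.eqLocus (fieldPu σ : MulAut (Cfsg.PSU n F q)).toMonoidHom
        (MonoidHom.id (Cfsg.PSU n F q)))) := by
  classical
  haveI : Finite (Cfsg.SU n F q) := inferInstance
  haveI : Finite (Cfsg.PSU n F q) := Quotient.finite _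
  haveI : Finite (MulAut (Cfsg.PSU n F q)) :=
    Finite.of_injective (fun α => (α : Cfsg.PSU n F q → Cfsg.PSU n F q)) DFunLike.coe_injective
  have hodd : Odd (orderOf σ) := hσ ▸ (Fact.out : p.Prime).odd_of_ne_two hp2
  have hs := not_32 hF hG
  have hinj := conj_inj hF hn hG
  set S := (baseP (n := n) hF hK f hf).range with hSdef
  have hfixS : ∀ s ∈ S, fieldPu σ s = s := by
    rintro _ ⟨t, rfl⟩
    show fieldPu σ (umk _) = umk _
    rw [fieldPu_umk]
    refine congrArg umk (H50.SU_ext (Matrix.ext fun i j => ?_))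
    exact (hfix _).2 ⟨_, rfl⟩
  obtain ⟨t, ht0, ht⟩ := H50.exists_trace_zero_ne_zero hK
  refine core_iff hinj A hinn S hfixS ?_ ?_ ?_ ?_
  · intro hbot
    obtain ⟨e, he0, he⟩ := H50.exists_isotropic hK (show 2 ≤ n by omega)
    have h1 : baseP hF hK f hf (H50.tv hK e t he ht) ∈ S := ⟨_, rfl⟩
    rw [hbot, Subgroup.mem_bot] at h1
    rw [baseP, MonoidHom.comp_apply, baseSU_tv hF hK f hf] at h1
    exact utp_ne_one hF (by omega) (bv_ne_zero f he0) ((map_ne_zero f).2 ht0) _ _ h1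
  · intro c hc
    obtain ⟨s, rfl⟩ := umk_surjective c
    have h1 : suGU s ∈ preCentralizer conjPu (fieldPu σ : MulAut (Cfsg.PSU n F q)) := by
      rw [mem_preCentralizer, conjPu_suGU hF, mul_inv_eq_iff_eq_mul]
      exact Subgroup.mem_centralizer_singleton_iff.1 ((conj_mem_centralizer hinj _).2 hc)
    obtain ⟨a, ha, h, hh, hsa⟩ := (preCentralizer_fieldPu hF hn hodd hcard hq).1 h1
    obtain ⟨g, rfl⟩ := fixed_mem_range hF hK f hf hfix hh
    rintro _ ⟨u, rfl⟩
    refine ⟨conjU g u, ?_⟩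
    rw [← MulAut.conj_apply, ← conjPu_suGU hF, hsa, map_mul,
      conjPu_of_scalar hF (g := scU hF a ha) rfl, one_mul]
    show umk _ = conjPu _ (umk _)
    rw [conjPu_umk]
    refine congrArg umk (H50.SU_ext ?_)
    show (suMat (conjU g u)).map f = suMat (conjU _ (baseSU hF hK f hf u))
    rw [suMat_conjU, suMat_conjU, suMat_baseSU, guMat_baseGU, ← map_inv, guMat_baseGU,
      Matrix.map_mul, Matrix.map_mul]
  · intro hpC N hNle hN hcop
    by_cases h32 : n = 3 ∧ q₀ = 2
    · refine small_core hF hK f hf h32.1 h32.2 ?_ N hNle hN hcop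
      -- the only odd prime dividing the order of `GU_3(2)` is three
      obtain ⟨e⟩ := centralizer_fieldPu hF hK f hf hfix hodd hcard hq hn
      have h1 : Nat.card ↥(MonoidHom.eqLocus (fieldPu σ : MulAut (Cfsg.PSU n F q)).toMonoidHom
          (MonoidHom.id (Cfsg.PSU n F q))) ∣ Nat.card (Cfsg.GU n K q₀) := by
        rw [Nat.card_congr (Subgroup.equivMapOfInjective _ (MulAut.conj : Cfsg.PSU n F q →* _) hinj).toEquiv]
        refine (Subgroup.card_dvd_of_le ?_).trans
          ((Nat.card_congr e.toEquiv).symm ▸ Subgroup.card_quotient_dvd_card _)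
        rintro _ ⟨k, hk, rfl⟩
        refine ⟨?_, (conj_mem_centralizer hinj k).2 hk⟩
        obtain ⟨s, rfl⟩ := umk_surjective k
        rw [SetLike.mem_coe, inndiagPSU_eq_range]
        exact ⟨suGU s, conjPu_suGU hF s⟩
      have h2 := hpC.trans h1
      rw [H50.card_GU hK, h32.1, h32.2] at h2
      norm_num [Finset.prod_range_succ] at h2
      have h3 : p ∣ 2 ^ 3 * 3 ^ 4 := by norm_num; exact h2
      rcases (Nat.Prime.dvd_mul Fact.out).1 h3 with h | h
      · exact absurd ((Nat.prime_dvd_prime_iff_eq Fact.out Nat.prime_two).1 ((Fact.out : p.Prime).dvd_of_dvd_pow h)) hp2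
      · exact (Nat.prime_dvd_prime_iff_eq Fact.out Nat.prime_three).1 ((Fact.out : p.Prime).dvd_of_dvd_pow h)
    · rcases simple_core hF hK f hf hn h32 N hNle hN with h | h
      · exact h
      exfalso
      rw [h] at hcop
      refine (Fact.out : p.Prime).not_dvd_one ?_
      rw [← hcop]
      refine Nat.dvd_gcd ?_ (dvd_refl p)
      -- `p` divides the order of the subfield group
      obtain ⟨e⟩ := centralizer_fieldPu hF hK f hf hfix hodd hcard hq hn
      have h1 : Nat.card ↥(MonoidHom.eqLocus (fieldPu σ : MulAut (Cfsg.PSU n F q)).toMonoidHom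
          (MonoidHom.id (Cfsg.PSU n F q))) ∣ Nat.card (Cfsg.GU n K q₀) := by
        rw [Nat.card_congr (Subgroup.equivMapOfInjective _ (MulAut.conj : Cfsg.PSU n F q →* _) hinj).toEquiv]
        refine (Subgroup.card_dvd_of_le ?_).trans
          ((Nat.card_congr e.toEquiv).symm ▸ Subgroup.card_quotient_dvd_card _)
        rintro _ ⟨k, hk, rfl⟩
        refine ⟨?_, (conj_mem_centralizer hinj k).2 hk⟩
        obtain ⟨s, rfl⟩ := umk_surjective k
        rw [SetLike.mem_coe, inndiagPSU_eq_range]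
        exact ⟨suGU s, conjPu_suGU hF s⟩
      have h2 := hpC.trans h1
      rw [← H50.card_SU_mul hK (by omega)] at h2
      rcases (Nat.Prime.dvd_mul Fact.out).1 h2 with h2 | h2
      · exact dvd_card_range_of_dvd hF hK f hf hn h2
      have hker : (baseP (n := n) hF hK f hf).ker = Subgroup.center (Cfsg.SU n K q₀) :=
        Subgroup.ext fun s => baseP_eq_one_iff hF hK f hf (by omega) s
      rw [← (baseP (n := n) hF hK f hf).ker.index_mul_card, Subgroup.index_ker, hker] at h2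
      rcases (Nat.Prime.dvd_mul Fact.out).1 h2 with h2 | h2
      · exact h2
      refine dvd_card_range_of_dvd hF hK f hf hn ?_
      rw [H50.card_center_SU hK (by omega)] at h2
      first
        | exact h2.trans (Nat.gcd_dvd_right _ _)
        | exact h2.trans (Nat.gcd_dvd_left _ _)
  · intro α hα
    obtain ⟨g, τ, rfl⟩ := exists_decomp hF hn hs α
    obtain ⟨hg, hτ⟩ := rigid_base hF hK f hf hn (g := g) (τ := τ) fun v hv a ha => by
      refine hα _ ⟨H50.tv hK v a hv ha, ?_⟩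
      show umk _ = _
      rw [baseSU_tv hF hK f hf hv ha]
      rfl
    rw [hg, one_mul, ← map_pow, H48.Balance.pow_eq_one_of_fix hσ (τ := τ) (fun a ha => by
      obtain ⟨x, rfl⟩ := (hfix a).1 ha
      exact hτ x), map_one]

omit hK hf in
/-- The criterion at any element of odd prime order outside the inner-diagonal group. -/
theorem field_balance (hn : 3 ≤ n) (hG : IsSimpleGroup (Cfsg.PSU n F q)) {p : ℕ} [Fact p.Prime]
    (hp2 : p ≠ 2) {g : Cfsg.GU n F q} {σ : F ≃+* F} (hσ : orderOf σ = p)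
    (hx : (conjPu g * fieldPu σ : MulAut (Cfsg.PSU n F q)) ^ p = 1)
    (A : Subgroup (MulAut (Cfsg.PSU n F q))) (hinn : ∀ k, MulAut.conj k ∈ A) :
    Cfsg.pPrimeCore p ↥(A ⊓ Subgroup.centralizer
        ({conjPu g * fieldPu σ} : Set (MulAut (Cfsg.PSU n F q)))) ≠ ⊥ ↔
      Nat.Coprime p (Nat.card ↥(MonoidHom.eqLocus (conjPu g * fieldPu σ : MulAut (Cfsg.PSU n F q)).toMonoidHom
        (MonoidHom.id (Cfsg.PSU n F q)))) := by
  classical
  have hodd : Odd (orderOf σ) := hσ ▸ (Fact.out : p.Prime).odd_of_ne_two hp2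
  obtain ⟨q₀, hcard, hq⟩ := exists_subfield hF hodd
  letI : Fintype (fixF σ) := Fintype.ofFinite _
  have hK : Fintype.card (fixF σ) = q₀ ^ 2 := by rw [← Nat.card_eq_fintype_card, hcard]
  have hf : ∀ x : fixF σ, (fixF σ).subtype x ^ q = (fixF σ).subtype (x ^ q₀) := fun x => by
    show (x : F) ^ q = ((x ^ q₀ : fixF σ) : F)
    rw [← SubmonoidClass.coe_pow, hq, pow_q_eq_pow_base hK hodd]
  have hfix : ∀ x, σ x = x ↔ x ∈ (fixF σ).subtype.range :=
    fun x => ⟨fun h => ⟨⟨x, h⟩, rfl⟩, by rintro ⟨y, rfl⟩; exact y.2⟩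
  obtain ⟨k, hk⟩ := coset_conj hF hn hodd hcard hq (g := g) (by rw [hσ]; exact hx)
  rw [hk]
  exact H43.Bal.core_iff_transport p _ _
    (fun B hB => field_std hF hK _ hf hn hG hp2 hσ hfix hcard hq B hB) A hinn

end H51.SUBal
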