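import Cfsg.Agent.H55.PSUFieldCount
import Mathlib

/-!
An automorphism of `PSU_n(q)` fixing the transvections defined over a subfield is a field
automorphism fixing that subfield.
-/

set_option autoImplicit false

namespace H51.SUBal

open Matrix H55 H55.Psu
open H50 (suMat guMat IsHyp)

variable {F : Type*} [Field F] [Fintype F] {n q : ℕ} (hF : Fintype.card F = q ^ 2)
variable {K : Type*} [Field K] [Fintype K] {q₀ : ℕ} (hK : Fintype.card K = q₀ ^ 2) (f : K →+* F)
  (hf : ∀ x, f x ^ q = f (x ^ q₀))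

/-- Extension of scalars of a vector. -/
def bv {n : ℕ} (f : K →+* F) (v : Fin n → K) : Fin n → F := fun i => f (v i)

omit [Fintype F] [Fintype K] in
theorem bv_add (v w : Fin n → K) : bv f (v + w) = bv f v + bv f w := by
  funext i; simp [bv]

omit [Fintype F] [Fintype K] in
theorem bv_smul (a : K) (v : Fin n → K) : bv f (a • v) = f a • bv f v := by
  funext i; simp [bv]

omit [Fintype F] [Fintype K] in
theorem bv_ne_zero {v : Fin n → K} (hv : v ≠ 0) : bv f v ≠ 0 := fun h => hv (funext fun i => by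
  have := congrFun h i
  exact (map_eq_zero f).1 this)

omit [Fintype F] [Fintype K] in
include hf in
theorem h_bv (v w : Fin n → K) :
    Cfsg.hermForm n F q (bv f v) (bv f w) = f (Cfsg.hermForm n K q₀ v w) := by
  simp [Cfsg.hermForm, bv, map_sum, hf]

omit [Fintype F] [Fintype K] in
include hf in
theorem tz_bv {a : K} (ha : a + a ^ q₀ = 0) : f a + f a ^ q = 0 := by
  rw [hf, ← map_add, ha, map_zero]

include hF hK hf in
theorem rigid_base (hn : 3 ≤ n) {g : Cfsg.GU n F q} {τ : F ≃+* F}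
    (hfix : ∀ (v : Fin n → K) (hv : Cfsg.hermForm n K q₀ v v = 0) (a : K) (ha : a + a ^ q₀ = 0),
      (conjPu g * fieldPu τ : MulAut (Cfsg.PSU n F q)) (utp hF (bv f v) (f a) (by rw [h_bv f hf, hv, map_zero]) (tz_bv f hf ha)) =
        utp hF (bv f v) (f a) (by rw [h_bv f hf, hv, map_zero]) (tz_bv f hf ha)) :
    conjPu g = 1 ∧ ∀ x, τ (f x) = f x := by
  obtain ⟨e, d, hyp⟩ := H50.exists_hyp hK (show 2 ≤ n by omega)
  obtain ⟨z, hz, hzz⟩ := exists_z hK hn hyp
  obtain ⟨t, ht0, ht⟩ := H50.exists_trace_zero_ne_zero hK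
  set ψ : (Fin n → F) → (Fin n → F) := fun v => guMat g *ᵥ fun i => τ (v i) with hψ
  have ψadd : ∀ v w, ψ (v + w) = ψ v + ψ w := fun v w => by
    show guMat g *ᵥ (fun i => τ ((v + w) i)) = _
    rw [← mulVec_add]
    congr 1
    funext i
    simp
  have ψsmul : ∀ (a : F) v, ψ (a • v) = τ a • ψ v := fun a v => by
    show guMat g *ᵥ (fun i => τ ((a • v) i)) = _
    rw [← mulVec_smul]
    congr 1
    funext i
    simp
  have ψh : ∀ v w, Cfsg.hermForm n F q (ψ v) (ψ w) = τ (Cfsg.hermForm n F q v w) := fun v w => by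
    show Cfsg.hermForm n F q (guMat g *ᵥ _) (guMat g *ᵥ _) = _
    rw [H50.GU_isIso g, map_h]
  have hline : ∀ v : Fin n → K, v ≠ 0 → Cfsg.hermForm n K q₀ v v = 0 →
      ∃ b : F, b ≠ 0 ∧ ψ (bv f v) = b • bv f v := by
    intro v hv0 hv
    have hv' : Cfsg.hermForm n F q (bv f v) (bv f v) = 0 := by rw [h_bv f hf, hv, map_zero]
    have h1 := hfix v hv t ht
    simp only [MulAut.mul_apply, utp, fieldPu_umk, conjPu_umk, fieldU_tv hF, conjU_tv hF] at h1
    exact prop_of_utp_eq hF (by omega) (bv_ne_zero f hv0) ((map_ne_zero f).2 ht0) (hv := hv')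
      (hc := tz_bv f hf ht) h1.symm |>.symm
  obtain ⟨A, hA0, hA⟩ := hline e (hyp.fst_ne_zero hK) hyp.1
  obtain ⟨B, hB0, hB⟩ := hline d ((hyp.symm hK).fst_ne_zero hK) hyp.2.1
  have hψW : ∀ w ∈ Wsp q₀ e d, Cfsg.hermForm n F q (ψ (bv f w)) (bv f e) = 0 ∧
      Cfsg.hermForm n F q (ψ (bv f w)) (bv f d) = 0 := by
    intro w hw
    have hw' := mem_Wsp.1 hw
    have h1 := ψh (bv f w) (bv f e)
    have h2 := ψh (bv f w) (bv f d)
    rw [hA, H50.h_smul_right hF, h_bv f hf w e, hw'.1, map_zero, map_zero] at h1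
    rw [hB, H50.h_smul_right hF, h_bv f hf w d, hw'.2, map_zero, map_zero] at h2
    exact ⟨(mul_eq_zero.1 h1).resolve_left (pow_ne_zero _ hA0),
      (mul_eq_zero.1 h2).resolve_left (pow_ne_zero _ hB0)⟩
  have key : ∀ w ∈ Wsp q₀ e d, ∀ a : K, a + a ^ q₀ + Cfsg.hermForm n K q₀ w w = 0 →
      ψ (bv f w) = B • bv f w ∧ τ (f a) * A = B * f a := by
    intro w hw a ha
    have hw' := mem_Wsp.1 hw
    set v := d + w + a • e
    have hve : Cfsg.hermForm n K q₀ v e = 1 := by
      simp [v, H50.h_add_left, H50.h_smul_left, (hyp.symm hK).2.2, hw'.1, hyp.1]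
    have hv : Cfsg.hermForm n K q₀ v v = 0 := by
      simp [v, H50.h_add_left, H50.h_add_right hK, H50.h_smul_left, H50.h_smul_right hK, hyp.1,
        hyp.2.1, hyp.2.2, (hyp.symm hK).2.2, hw'.1, hw'.2, (H50.h_eq_zero_comm hK).1 hw'.1,
        (H50.h_eq_zero_comm hK).1 hw'.2]
      linear_combination ha
    have hv0 : v ≠ 0 := fun h0 => by simp [h0, H50.h_zero_left] at hve
    obtain ⟨b, -, hb⟩ := hline v hv0 hv
    have hψv : ψ (bv f v) = B • bv f d + ψ (bv f w) + (τ (f a) * A) • bv f e := by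
      rw [bv_add, bv_add, bv_smul, ψadd, ψadd, ψsmul, hA, hB, smul_smul]
    have hψw := hψW w hw
    rw [hψv, bv_add, bv_add, bv_smul] at hb
    have e1 := congrArg (fun x => Cfsg.hermForm n F q x (bv f e)) hb
    have e2 := congrArg (fun x => Cfsg.hermForm n F q x (bv f d)) hb
    simp [H50.h_add_left, H50.h_smul_left, hψw.1, hψw.2, h_bv f hf, hyp.1, hyp.2.1, hyp.2.2,
      (hyp.symm hK).2.2, hw'.1, hw'.2] at e1 e2
    subst e1
    refine ⟨?_, e2⟩
    rw [e2] at hb
    linear_combination (norm := module) hb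
  have hz' : ∀ s : K, ψ (bv f (s • z)) = B • bv f (s • z) := fun s =>
    (key _ (Submodule.smul_mem _ _ hz) _ (a0_spec hK _)).1
  have hz0 : z ≠ 0 := fun h0 => by simp [h0, H50.h_zero_left] at hzz
  have h1z : ψ (bv f z) = B • bv f z := by simpa using hz' 1
  have hτ : ∀ s, τ (f s) = f s := fun s => by
    have h1 := hz' s
    rw [bv_smul, ψsmul, h1z, smul_smul, smul_smul] at h1
    exact mul_right_cancel₀ hB0 ((smul_left_injective F (bv_ne_zero f hz0) h1).trans (mul_comm B _))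
  have hAB : A = B := by
    have h1 := (key 0 (zero_mem _) t (by rw [H50.h_zero_left, add_zero, ht])).2
    rw [hτ, mul_comm B] at h1
    exact mul_left_cancel₀ ((map_ne_zero f).2 ht0) h1
  have hall : ∀ v : Fin n → K, ψ (bv f v) = B • bv f v := by
    intro v
    have hp := (key _ (projW_mem hK hyp v) _ (a0_spec hK _)).1
    rw [decomp_projW (q := q₀) e d v, bv_add, bv_add, bv_smul, bv_smul, ψadd, ψadd, ψsmul, ψsmul,
      hA, hB, hp, hτ, hτ, hAB]
    module
  refine ⟨(conjPu_eq_one_iff hF hn).2 ⟨Units.mk0 B hB0,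
    Units.ext (Matrix.ext_of_mulVec_single fun i => ?_)⟩, hτ⟩
  rw [GeneralLinearGroup.coe_scalar, scalar_apply, ← smul_one_eq_diagonal, smul_mulVec, one_mulVec,
    Units.val_mk0]
  have h1 : bv f (Pi.single i (1 : K)) = Pi.single i 1 := by
    funext j; simp [bv, Pi.single_apply, apply_ite f]
  have h2 := hall (Pi.single i 1)
  rw [h1] at h2
  rw [← h2, hψ]
  show guMat g *ᵥ _ = guMat g *ᵥ _
  congr 1
  funext j
  simp [Pi.single_apply, apply_ite τ]

end H51.SUBal
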