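import Cfsg.Agent.H51.SUBal.GraphBase
import Cfsg.Agent.H43.PSLBal.Sym
import Mathlib

/-!
The odd core of the centraliser of an involutory graph automorphism of `PSU_n(q)` is trivial.
-/

set_option autoImplicit false

namespace H51.SUBal

open Matrix H55 H55.Psu
open H50 (suMat guMat)
open H43.PSLBal (FormData glOfEquiv glOfEquiv_mulVec)
open H43 (orthGroup negOrth refl polB)

variable {F : Type*} [Field F] [Fintype F] {n q : ℕ} {hF : Fintype.card F = q ^ 2}
  {F₀ : Type*} [Field F₀] (G : GDat hF n F₀)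

namespace GDat

theorem kE_sq (hn : 3 ≤ n) (u v : Fin n → F₀) (hd : (G.D.gram u v).det ≠ 0) :
    G.kE hn u v hd * G.kE hn u v hd = 1 := by
  rw [kE, ← map_mul, ← map_mul, show (⟨G.D.jSL u v hd, G.D.jSL_mem u v hd⟩ : G.D.iso) *
    ⟨G.D.jSL u v hd, G.D.jSL_mem u v hd⟩ = 1 from Subtype.ext (G.D.jSL_sq u v hd), map_one, map_one]

theorem kE_inv (hn : 3 ≤ n) (u v : Fin n → F₀) (hd : (G.D.gram u v).det ≠ 0) :
    (G.kE hn u v hd)⁻¹ = G.kE hn u v hd := inv_eq_of_mul_eq_one_right (G.kE_sq hn u v hd)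

theorem kE_ne_one (hn : 3 ≤ n) (u v : Fin n → F₀) (hd : (G.D.gram u v).det ≠ 0) :
    G.kE hn u v hd ≠ 1 := by
  intro h
  have h1 : G.phi hn ⟨G.D.jSL u v hd, G.D.jSL_mem u v hd⟩ ∈ Subgroup.center (Cfsg.SU n F q) :=
    (QuotientGroup.eq_one_iff _).1 h
  obtain ⟨a, -, ha⟩ := H50.scalar_of_mem_center hF (by omega) h1
  have hJ := G.tr_eq_smul_one (M := G.D.jMat u v) (a := a) ha
  let i : Fin n := ⟨0, by omega⟩
  have ha' : G.f (G.D.jMat u v i i) = a := by simpa using congrFun (congrFun hJ i) i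
  have hJ' : G.D.jMat u v = G.D.jMat u v i i • 1 := Matrix.map_injective G.f.injective (by
    show (G.D.jMat u v).map G.f = (G.D.jMat u v i i • (1 : Mat n F₀)).map G.f
    rw [hJ, ← ha']
    ext x y
    by_cases hxy : x = y <;> simp [hxy])
  refine G.D.kElt_ne_one hn u v hd ?_
  rw [FormData.kElt, pmk_eq_one_iff]
  refine ⟨G.D.jMat u v i i, ?_, hJ'⟩
  have hd1 := G.D.jMat_det hd
  rw [hJ', det_smul, det_one, mul_one, Fintype.card_fin] at hd1
  exact hd1

theorem exists_plane (hn : 3 ≤ n) : ∃ u v, (G.D.gram u v).det ≠ 0 := by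
  obtain ⟨v, -, h, -⟩ := G.D.exists_planes hn (u := Pi.single ⟨0, by omega⟩ 1) (by simp)
  exact ⟨_, v, h⟩

/-- An element of `PSU` fixed by the graph automorphism is a similitude of the form. -/
theorem exists_similitude (hn : 3 ≤ n)
    (hinj : Function.Injective (MulAut.conj : Cfsg.PSU n F q → MulAut (Cfsg.PSU n F q)))
    {s : Cfsg.SU n F q} (hs : G.x (umk s) = umk s) :
    ∃ (M : GL (Fin n) F₀) (w : F) (e : F₀), w ≠ 0 ∧ e ≠ 0 ∧
      G.D.S = e • ((M : Mat n F₀)ᵀ * G.D.S * (M : Mat n F₀)) ∧ suMat s = w • G.tr (M : Mat n F₀) := by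
  have h1 := Subgroup.mem_centralizer_singleton_iff.1 ((H43.Bal.conj_mem_centralizer hinj _).2 hs)
  rw [← conjPu_suGU hF] at h1
  obtain ⟨c, hc⟩ := (graphU_eq_iff hF hn (suGU s) G.A G.A).1
    (eq_mul_inv_of_mul_eq (show G.x * conjPu (suGU s) = conjPu (suGU s) * G.x from h1.symm))
  obtain ⟨M, w, e, hw, he, -, hS, hk⟩ := forward hF G.hfix (by omega) G.r G.r G.D.det hc
  refine ⟨M, w, e, hw, he, hS, ?_⟩
  rw [tr, ← Matrix.smul_mul, ← hk, Matrix.mul_assoc, G.k_mul_inv, Matrix.mul_one]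
  rfl

/-- Reduction of the odd core to fixed subgroups of odd order. -/
theorem core_eq_bot (hn : 3 ≤ n) (hG : IsSimpleGroup (Cfsg.PSU n F q))
    (hM : ∀ M : Subgroup (Cfsg.PSU n F q), Odd (Nat.card M) → (∀ m ∈ M, G.x m = m) →
      (∀ d : MulAut (Cfsg.PSU n F q), d * G.x = G.x * d → ∀ m ∈ M, d m ∈ M) →
      ∀ m ∈ M, ∀ u v hd, m * G.kE hn u v hd * m⁻¹ = G.kE hn u v hd)
    (A : Subgroup (MulAut (Cfsg.PSU n F q))) (hinn : ∀ k, MulAut.conj k ∈ A) :
    Cfsg.pPrimeCore 2 ↥(A ⊓ Subgroup.centralizer ({G.x} : Set (MulAut (Cfsg.PSU n F q)))) = ⊥ := by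
  classical
  haveI : Finite (Cfsg.PSU n F q) := Quotient.finite _
  haveI : Finite (MulAut (Cfsg.PSU n F q)) :=
    Finite.of_injective (fun α => (α : Cfsg.PSU n F q → Cfsg.PSU n F q)) DFunLike.coe_injective
  have hinj := conj_inj hF hn hG
  have hs := not_32 hF hG
  have hodd : ∀ {a : MulAut (Cfsg.PSU n F q)} {P : Subgroup (MulAut (Cfsg.PSU n F q))},
      Odd (Nat.card P) → a ∈ P → Odd (orderOf a) := fun hP ha =>
    H43.Bal.odd_of_dvd hP ((Subgroup.orderOf_mk _ ha) ▸ orderOf_dvd_natCard (⟨_, ha⟩ : (_ : Subgroup _)))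
  refine H43.Bal.centralizer_core_eq_bot hinj G.x A hinn ?_ ?_
  · intro P hPo hPc hPn
    set M := P.comap (MulAut.conj : Cfsg.PSU n F q →* MulAut (Cfsg.PSU n F q))
    have hMo : Odd (Nat.card M) := by
      refine H43.Bal.odd_of_dvd hPo ?_
      rw [Nat.card_congr (Subgroup.equivMapOfInjective M _ hinj).toEquiv]
      exact Subgroup.card_dvd_of_le (Subgroup.map_comap_le _ _)
    have hMfix : ∀ m ∈ M, G.x m = m := fun m hm => (H43.Bal.conj_mem_centralizer hinj m).1
      (Subgroup.mem_centralizer_singleton_iff.2 (hPc _ hm))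
    have hMinv : ∀ d : MulAut (Cfsg.PSU n F q), d * G.x = G.x * d → ∀ m ∈ M, d m ∈ M := fun d hd m hm => by
      show MulAut.conj (d m) ∈ P
      rw [← H43.Bal.aut_conj]
      exact hPn d hd _ hm
    have hM1 : ∀ m ∈ M, m = 1 := fun m hm => hinj (by
      rw [map_one]
      exact G.eq_one_of_planes hn hs (hodd hPo hm) fun u v hd => hM M hMo hMfix hMinv m hm u v hd)
    intro y hy
    refine G.eq_one_of_planes hn hs (hodd hPo hy) fun u v hd => ?_
    set k := G.kE hn u v hd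
    have hk : MulAut.conj k * G.x = G.x * MulAut.conj k := G.phi_comm hn _
    have h1 : y k * k⁻¹ ∈ M := by
      show MulAut.conj (y k * k⁻¹) ∈ P
      rw [map_mul, map_inv, ← H43.Bal.aut_conj, show y * MulAut.conj k * y⁻¹ * (MulAut.conj k)⁻¹ =
        y * (MulAut.conj k * y⁻¹ * (MulAut.conj k)⁻¹) by group]
      exact P.mul_mem hy (hPn _ hk _ (P.inv_mem hy))
    exact mul_inv_eq_one.1 (hM1 _ h1)
  · intro y _ hy hcen
    refine G.eq_one_of_planes hn hs hy fun u v hd => hinj ?_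
    rw [← H43.Bal.aut_conj, hcen (G.kE hn u v hd) (G.phi_fix hn hinj _), mul_inv_cancel_right]

/-- No odd core when the isometry group is quasi-simple. -/
theorem core_eq_bot_iso (hn : 3 ≤ n) (hG : IsSimpleGroup (Cfsg.PSU n F q))
    (hN : ∀ N : Subgroup G.D.iso, N.Normal → N ≤ Subgroup.center G.D.iso ∨ N = ⊤)
    (A : Subgroup (MulAut (Cfsg.PSU n F q))) (hinn : ∀ k, MulAut.conj k ∈ A) :
    Cfsg.pPrimeCore 2 ↥(A ⊓ Subgroup.centralizer ({G.x} : Set (MulAut (Cfsg.PSU n F q)))) = ⊥ := by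
  classical
  haveI : Finite (Cfsg.PSU n F q) := Quotient.finite _
  refine G.core_eq_bot hn hG ?_ A hinn
  intro M hMo hMfix hMinv m hm u v hd
  have hinj := conj_inj hF hn hG
  have hs32 := not_32 hF hG
  let pf : G.D.iso →* Cfsg.PSU n F q := umk.comp (G.phi hn)
  have hnorm : ∀ k : G.D.iso, ∀ a ∈ M, pf k * a * (pf k)⁻¹ ∈ M := fun k a ha =>
    hMinv (MulAut.conj (pf k)) (G.phi_comm hn k) a ha
  set N : Subgroup G.D.iso := M.comap pf
  have hNn : N.Normal := ⟨fun a ha k => by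
    show pf (k * a * k⁻¹) ∈ M
    rw [map_mul, map_mul, map_inv]
    exact hnorm k _ ha⟩
  have hord : ∀ {a : Cfsg.PSU n F q}, a ∈ M → Odd (orderOf (MulAut.conj a)) := fun ha =>
    H43.Bal.odd_of_dvd hMo (dvd_trans (orderOf_map_dvd MulAut.conj _)
      ((Subgroup.orderOf_mk _ ha) ▸ orderOf_dvd_natCard (⟨_, ha⟩ : M)))
  set j : G.D.iso := ⟨G.D.jSL u v hd, G.D.jSL_mem u v hd⟩
  have hcen : N ≤ Subgroup.center G.D.iso := by
    refine (hN N hNn).resolve_right fun h => ?_
    have h1 : G.kE hn u v hd ∈ M := (h.symm ▸ Subgroup.mem_top j : j ∈ N)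
    have h2 : orderOf (⟨_, h1⟩ : M) ∣ 2 := orderOf_dvd_of_pow_eq_one (Subtype.ext (by
      rw [SubmonoidClass.coe_pow, pow_two]; exact G.kE_sq hn u v hd))
    rcases (Nat.dvd_prime Nat.prime_two).1 h2 with e | e
    · exact G.kE_ne_one hn u v hd (congrArg Subtype.val (orderOf_eq_one_iff.1 e))
    · exact hMo.not_two_dvd_nat (e ▸ orderOf_dvd_natCard (⟨_, h1⟩ : M))
  obtain ⟨s, rfl⟩ := umk_surjective m
  obtain ⟨M0, w, e, hw, he, hS, hs⟩ := G.exists_similitude hn hinj (hMfix _ hm)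
  -- the commutator with `j` lies in the isometry group
  set J : Mat n F₀ := G.D.jMat u v
  set Mi : Mat n F₀ := ((M0⁻¹ : GL (Fin n) F₀) : Mat n F₀)
  have hMi : (M0 : Mat n F₀) * Mi = 1 := by
    show (M0 : Mat n F₀) * _ = 1
    rw [← Units.val_mul, mul_inv_cancel, Units.val_one]
  have hJ2 : J * J = 1 := G.D.jMat_sq hd
  have hJS : Jᵀ * G.D.S * J = G.D.S := by
    have := G.D.jMat_isometry hd
    rwa [G.map_refl] at this
  let C : Mat n F₀ := (M0 : Mat n F₀) * J * Mi * J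
  have hCdet : C.det = 1 := by
    simp only [C, det_mul, J]
    rw [G.D.jMat_det hd, mul_one, mul_one, ← det_mul, hMi, det_one]
  have hMS : (M0 : Mat n F₀)ᵀ * G.D.S * (M0 : Mat n F₀) = e⁻¹ • G.D.S := by
    conv_rhs => rw [hS, smul_smul, inv_mul_cancel₀ he, one_smul]
  have hMiS : Miᵀ * (e⁻¹ • G.D.S) * Mi = G.D.S := by
    rw [← hMS]
    calc Miᵀ * ((M0 : Mat n F₀)ᵀ * G.D.S * (M0 : Mat n F₀)) * Mi
        = ((M0 : Mat n F₀) * Mi)ᵀ * G.D.S * ((M0 : Mat n F₀) * Mi) := by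
          simp only [transpose_mul, Matrix.mul_assoc]
      _ = G.D.S := by rw [hMi, transpose_one, Matrix.one_mul, Matrix.mul_one]
  have hCS : (⟨C, hCdet⟩ : SLn n F₀) ∈ G.D.iso := by
    refine (G.D.mem_iso _).2 ?_
    rw [G.map_refl]
    show Cᵀ * G.D.S * C = G.D.S
    calc Cᵀ * G.D.S * C = Jᵀ * (Miᵀ * (Jᵀ * ((M0 : Mat n F₀)ᵀ * G.D.S * (M0 : Mat n F₀)) * J) * Mi) * J := by
          simp only [C, transpose_mul, Matrix.mul_assoc]
      _ = G.D.S := by rw [hMS, Matrix.mul_smul, Matrix.smul_mul, hJS, hMiS, hJS]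
  set c : G.D.iso := ⟨⟨C, hCdet⟩, hCS⟩
  have hphi : G.phi hn c = s * G.phi hn j * s⁻¹ * G.phi hn j := by
    have h0 : G.phi hn c * G.phi hn j * s = s * G.phi hn j := by
      refine H50.SU_ext ?_
      show suMat (G.phi hn c * G.phi hn j * s) = suMat (s * G.phi hn j)
      rw [H50.suMat_mul, H50.suMat_mul, H50.suMat_mul, G.suMat_phi, G.suMat_phi, hs, Matrix.mul_smul,
        Matrix.smul_mul]
      show w • (G.tr C * G.tr J * G.tr (M0 : Mat n F₀)) = w • (G.tr (M0 : Mat n F₀) * G.tr J)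
      rw [← G.tr_mul, ← G.tr_mul, ← G.tr_mul]
      congr 2
      simp only [C, Matrix.mul_assoc]
      rw [← Matrix.mul_assoc J J, hJ2, Matrix.one_mul]
      rw [show Mi * (M0 : Mat n F₀) = 1 from mul_eq_one_comm.1 hMi, Matrix.mul_one]
    have hjj : G.phi hn j * G.phi hn j = 1 := by
      rw [← map_mul, show j * j = 1 from Subtype.ext (G.D.jSL_sq u v hd), map_one]
    calc G.phi hn c = (G.phi hn c * G.phi hn j * s) * s⁻¹ * (G.phi hn j)⁻¹ := by group
      _ = _ := by rw [h0, inv_eq_of_mul_eq_one_right hjj]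
  have hk : umk (G.phi hn j) = G.kE hn u v hd := rfl
  have haM : pf c ∈ M := by
    show umk (G.phi hn c) ∈ M
    rw [hphi, map_mul, map_mul, map_mul, map_inv, hk,
      show umk s * G.kE hn u v hd * (umk s)⁻¹ * G.kE hn u v hd =
        umk s * (G.kE hn u v hd * (umk s)⁻¹ * (G.kE hn u v hd)⁻¹) by rw [G.kE_inv]; group]
    exact M.mul_mem hm (hnorm j _ (M.inv_mem hm))
  have h1 : MulAut.conj (pf c) = 1 := by
    refine G.eq_one_of_planes hn hs32 (hord haM) fun u' v' hd' => ?_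
    have h2 := Subgroup.mem_center_iff.1 (hcen (show c ∈ N from haM))
      ⟨G.D.jSL u' v' hd', G.D.jSL_mem u' v' hd'⟩
    have h3 := congrArg pf h2
    rw [map_mul, map_mul] at h3
    rw [MulAut.conj_apply, mul_inv_eq_iff_eq_mul]
    exact h3.symm
  rw [← map_one MulAut.conj] at h1
  have h4 : umk s * G.kE hn u v hd * (umk s)⁻¹ * G.kE hn u v hd = 1 := by
    rw [← hk, ← map_inv, ← map_mul, ← map_mul, ← map_mul, ← hphi]
    exact hinj h1
  calc umk s * G.kE hn u v hd * (umk s)⁻¹ = (G.kE hn u v hd)⁻¹ := eq_inv_of_mul_eq_one_left h4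
    _ = G.kE hn u v hd := G.kE_inv hn u v hd

section Sym

variable (hS : G.D.Sᵀ = G.D.S)

include hS in
theorem exists_orth_gu (hn : 3 ≤ n) (g : orthGroup G.D.qform) :
    ∃ h : Cfsg.GU n F q, guMat h = G.tr (glOfEquiv g.1 : Mat n F₀) ∧ conjPu h * G.x = G.x * conjPu h :=
  G.exists_gu hn (glOfEquiv g.1) (G.D.orth_matrix G.hσ hS g)

/-- The isometries of the quadratic form inside `GU`. -/
noncomputable def omega (hn : 3 ≤ n) : orthGroup G.D.qform →* Cfsg.GU n F q where
  toFun g := (G.exists_orth_gu hS hn g).choose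
  map_one' := H50.GU_ext ((G.exists_orth_gu hS hn 1).choose_spec.1.trans (by
    rw [OneMemClass.coe_one, map_one, Units.val_one, G.tr_one]; rfl))
  map_mul' a b := H50.GU_ext ((G.exists_orth_gu hS hn (a * b)).choose_spec.1.trans (by
    rw [Subgroup.coe_mul, map_mul, Units.val_mul, G.tr_mul]
    show _ = guMat (G.exists_orth_gu hS hn a).choose * guMat (G.exists_orth_gu hS hn b).choose
    rw [(G.exists_orth_gu hS hn a).choose_spec.1, (G.exists_orth_gu hS hn b).choose_spec.1]))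

theorem guMat_omega (hn : 3 ≤ n) (g : orthGroup G.D.qform) :
    guMat (G.omega hS hn g) = G.tr (glOfEquiv g.1 : Mat n F₀) := (G.exists_orth_gu hS hn g).choose_spec.1

/-- The action of the isometries. -/
noncomputable def act (hn : 3 ≤ n) : orthGroup G.D.qform →* MulAut (Cfsg.PSU n F q) :=
  conjPu.comp (G.omega hS hn)

theorem act_comm (hn : 3 ≤ n) (g : orthGroup G.D.qform) :
    G.act hS hn g * G.x = G.x * G.act hS hn g := (G.exists_orth_gu hS hn g).choose_spec.2

variable [Fintype F₀]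

theorem act_ker (hn : 3 ≤ n) (g : orthGroup G.D.qform) (hg : G.act hS hn g = 1) :
    g = 1 ∨ g = negOrth G.D.qform := by
  obtain ⟨a, ha⟩ := (conjPu_eq_one_iff hF hn).1 hg
  have ha' := congrArg Units.val ha
  rw [GeneralLinearGroup.coe_scalar, scalar_apply, ← smul_one_eq_diagonal] at ha'
  have h1 : (glOfEquiv g.1 : Mat n F₀).map G.f = (a : F) • 1 :=
    G.tr_eq_smul_one ((G.guMat_omega hS hn g).symm.trans ha')
  let i : Fin n := ⟨0, by omega⟩
  have hc : G.f ((glOfEquiv g.1 : Mat n F₀) i i) = a := by simpa using congrFun (congrFun h1 i) i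
  set c := (glOfEquiv g.1 : Mat n F₀) i i
  have happ : ∀ v, g.1 v = c • v := fun v => by
    rw [← glOfEquiv_mulVec g.1 v]
    have h2 : (glOfEquiv g.1 : Mat n F₀) = c • 1 := Matrix.map_injective G.f.injective (by
      show (glOfEquiv g.1 : Mat n F₀).map G.f = (c • (1 : Mat n F₀)).map G.f
      rw [h1, ← hc]
      ext x y
      by_cases hxy : x = y <;> simp [hxy])
    rw [h2, smul_mulVec, one_mulVec]
  obtain ⟨v, hv⟩ : ∃ v, G.D.qform v = 1 :=
    H43.exists_qmap_eq (G.D.qform_nondeg G.hσ hS) (by rw [Module.finrank_fin_fun]; omega) 1 one_ne_zero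
  have h1 := g.2 v
  rw [happ, H43.qmap_smul, hv, mul_one] at h1
  rcases mul_self_eq_one_iff.1 h1 with h | h
  · exact Or.inl (H43.orth_ext fun w => by rw [happ, h, one_smul]; rfl)
  · exact Or.inr (H43.orth_ext fun w => by rw [happ, h, neg_one_smul]; rfl)

include hS in
/-- No odd core for a symmetric form. -/
theorem core_eq_bot_sym (hn : 3 ≤ n) (hG : IsSimpleGroup (Cfsg.PSU n F q))
    (A : Subgroup (MulAut (Cfsg.PSU n F q))) (hinn : ∀ k, MulAut.conj k ∈ A) :
    Cfsg.pPrimeCore 2 ↥(A ⊓ Subgroup.centralizer ({G.x} : Set (MulAut (Cfsg.PSU n F q)))) = ⊥ := by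
  classical
  haveI : Finite (Cfsg.PSU n F q) := Quotient.finite _
  refine G.core_eq_bot hn hG ?_ A hinn
  intro M hMo hMfix hMinv m hm
  suffices hm1 : m = 1 by intro u v hd; rw [hm1, one_mul, inv_one, mul_one]
  have hinj := conj_inj hF hn hG
  have hσ := G.hσ
  have hR := G.D.qform_nondeg hσ hS
  set M' := M.map (MulAut.conj : Cfsg.PSU n F q →* MulAut (Cfsg.PSU n F q))
  have hMo' : Odd (Nat.card M') := by
    rw [← Nat.card_congr (Subgroup.equivMapOfInjective M _ hinj).toEquiv]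
    exact hMo
  have hnorm : ∀ g : orthGroup G.D.qform, ∀ a ∈ M', G.act hS hn g * a * (G.act hS hn g)⁻¹ ∈ M' := by
    rintro g _ ⟨b, hb, rfl⟩
    exact ⟨G.act hS hn g b, hMinv _ (G.act_comm hS hn g) b hb, (H43.Bal.aut_conj _ _).symm⟩
  have hker := G.act_ker hS hn
  obtain ⟨s, rfl⟩ := umk_surjective m
  obtain ⟨M0, w, e, hw, he, hSe, hs⟩ := G.exists_similitude hn hinj (hMfix _ hm)
  have hB : ∀ u v, G.D.B u v = e * G.D.B ((M0 : Mat n F₀) *ᵥ u) ((M0 : Mat n F₀) *ᵥ v) := fun u v => by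
    rw [G.D.B_eq hσ, G.D.B_eq hσ]
    conv_lhs => rw [hSe]
    rw [smul_mulVec, dotProduct_smul, smul_eq_mul, ← mulVec_mulVec, ← mulVec_mulVec,
      dotProduct_mulVec u (M0 : Mat n F₀)ᵀ, vecMul_transpose]
  let T : (Fin n → F₀) →+ (Fin n → F₀) :=
    { toFun := fun u => (M0 : Mat n F₀) *ᵥ u, map_zero' := mulVec_zero _, map_add' := mulVec_add _ }
  have hlines : ∀ u, G.D.qform u ≠ 0 → ∃ l : F₀, T u = l • u := by
    intro u hu
    have hu' : G.D.qform (T u) ≠ 0 := fun h => hu (by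
      rw [G.D.qform_apply hσ] at h ⊢
      rw [hB, show (M0 : Mat n F₀) *ᵥ u = T u from rfl, h, mul_zero])
    have hrefl : (glOfEquiv (refl G.D.qform (T u)).1 : Mat n F₀) * (M0 : Mat n F₀) =
        (M0 : Mat n F₀) * (glOfEquiv (refl G.D.qform u).1 : Mat n F₀) := by
      refine Matrix.ext_of_mulVec_single fun i => ?_
      rw [← mulVec_mulVec, ← mulVec_mulVec, glOfEquiv_mulVec, glOfEquiv_mulVec, H43.refl_apply,
        H43.refl_apply, G.D.qform_apply hσ, G.D.qform_apply hσ, G.D.qform_polB hσ hS, G.D.qform_polB hσ hS]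
      generalize (Pi.single i (1 : F₀) : Fin n → F₀) = x
      show (M0 : Mat n F₀) *ᵥ x - _ • ((M0 : Mat n F₀) *ᵥ u) = (M0 : Mat n F₀) *ᵥ (x - _ • u)
      rw [mulVec_sub, mulVec_smul, hB x u, hB u u]
      congr 2
      show (G.D.B ((M0 : Mat n F₀) *ᵥ u) ((M0 : Mat n F₀) *ᵥ u))⁻¹ * _ = _
      field_simp
      rfl
    have hgu : G.omega hS hn (refl G.D.qform (T u)) * suGU s =
        suGU s * G.omega hS hn (refl G.D.qform u) := H50.GU_ext (by
      show guMat (G.omega hS hn (refl G.D.qform (T u))) * suMat s =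
        suMat s * guMat (G.omega hS hn (refl G.D.qform u))
      rw [G.guMat_omega, G.guMat_omega, hs, Matrix.mul_smul, Matrix.smul_mul, ← G.tr_mul, ← G.tr_mul, hrefl])
    have hmem : G.act hS hn (refl G.D.qform (T u) * refl G.D.qform u) ∈ M' := by
      have h1 : G.act hS hn (refl G.D.qform (T u) * refl G.D.qform u) =
          MulAut.conj (umk s) * (G.act hS hn (refl G.D.qform u) * (MulAut.conj (umk s))⁻¹ *
            (G.act hS hn (refl G.D.qform u))⁻¹) := by
        rw [map_mul, ← map_inv (G.act hS hn), H43.refl_inv, ← conjPu_suGU hF]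
        have h2 := congrArg conjPu hgu
        rw [map_mul, map_mul, ← eq_mul_inv_iff_mul_eq] at h2
        rw [show G.act hS hn (refl G.D.qform (T u)) = conjPu (G.omega hS hn (refl G.D.qform (T u))) from rfl, h2,
          show G.act hS hn (refl G.D.qform u) = conjPu (G.omega hS hn (refl G.D.qform u)) from rfl]
        group
      rw [h1]
      exact M'.mul_mem (Subgroup.mem_map_of_mem _ hm)
        (hnorm _ _ (M'.inv_mem (Subgroup.mem_map_of_mem _ hm)))
    rcases (show 4 ≤ n ∨ n = 3 by omega) with h4 | h3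
    · obtain ⟨l, hl⟩ := Submodule.mem_span_singleton.1 (H43.Bal.near_eq_gen hker hR G.D.two
        (by rw [Module.finrank_fin_fun]; exact h4) M' hMo' hnorm hu' hu hmem)
      have hl0 : l ≠ 0 := fun e => hu (by rw [← hl, e, zero_smul, map_zero])
      exact ⟨l⁻¹, (eq_inv_smul_iff₀ hl0).2 hl⟩
    · have hodd : Odd (Module.finrank F₀ (Fin n → F₀)) := ⟨1, by rw [Module.finrank_fin_fun]; omega⟩
      set H : Subgroup (orthGroup G.D.qform) := H43.specialOrth G.D.qform ⊓ M'.comap (G.act hS hn)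
      haveI : H.Normal := ⟨fun a ha k => ⟨by
          show k * a * k⁻¹ ∈ H43.specialOrth G.D.qform
          rw [H43.mem_specialOrth, map_mul, map_mul, H43.mem_specialOrth.1 ha.1, mul_one, map_inv,
            mul_inv_cancel], by
          show G.act hS hn (k * a * k⁻¹) ∈ M'
          rw [map_mul, map_mul, map_inv]
          exact hnorm k _ ha.2⟩⟩
      have hHo : Odd (Nat.card H) := by
        refine H43.Bal.odd_of_dvd hMo' (Subgroup.card_dvd_of_injective
          (((G.act hS hn).comp H.subtype).codRestrict M' fun a => a.2.2) fun a b hab => Subtype.ext ?_)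
        exact H43.Bal.eq_of_rho_eq hker hodd G.D.two (congrArg Subtype.val hab)
          (a.2.1.trans (b.2.1 : H43.detHom G.D.qform b.1 = 1).symm)
      have h1 := H43.Bal.three_eq_one hR G.D.two (by rw [Module.finrank_fin_fun]; exact h3) H hHo
        (show refl G.D.qform (T u) * refl G.D.qform u ∈ H from
          ⟨H43.specialOrth_refl_mul_refl hu' hu, hmem⟩)
      rw [mul_eq_one_iff_eq_inv, H43.refl_inv] at h1
      obtain ⟨l, hl⟩ := Submodule.mem_span_singleton.1 (H43.Bal.mem_line_of_refl_eq G.D.two hu' h1)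
      exact ⟨l, hl.symm⟩
  obtain ⟨l, hl⟩ := H43.Bal.exists_scalar_of_lines hR G.D.two (by rw [Module.finrank_fin_fun]; exact hn) T hlines
  have hM0 : (M0 : Mat n F₀) = l • 1 := Matrix.ext_of_mulVec_single fun i => by
    rw [smul_mulVec, one_mulVec]
    exact hl _
  have hsc : suMat s = (w * G.f l) • 1 := by rw [hs, hM0, G.tr_smul, G.tr_one, smul_smul]
  exact (QuotientGroup.eq_one_iff s).2 ((H50.mem_center_iff_scalar hF (by omega)).2 ⟨_, hsc⟩)

end Sym

end GDat

end H51.SUBal
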