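import Cfsg.Agent.H55.PSUGraphModel
import Cfsg.Agent.H55.PSUGraphCount
import Cfsg.Agent.H43.PSLBal.Forms
import Cfsg.Agent.H51.SUBal.Field
import Mathlib

/-!
Isometries of the representing form inside the centraliser of an involutory graph automorphism of
`PSU_n(q)`, and odd order automorphisms fixing the plane involutions.
-/

set_option autoImplicit false

namespace H51.SUBal

open Matrix H55 H55.Psu
open H50 (suMat guMat IsHyp)
open H43.PSLBal (FormData)

variable {F : Type*} [Field F] [Fintype F] {n q : ℕ}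

theorem orderOf_field_dvd (hF : Fintype.card F = q ^ 2) (hn : 3 ≤ n) (g : Cfsg.GU n F q) (τ : F ≃+* F) :
    orderOf τ ∣ orderOf (conjPu g * fieldPu τ : MulAut (Cfsg.PSU n F q)) := by
  obtain ⟨g', -, h⟩ := conj_pow_field hF τ g (orderOf (conjPu g * fieldPu τ : MulAut (Cfsg.PSU n F q)))
  rw [pow_orderOf_eq_one, eq_comm, mul_eq_one_iff_eq_inv, ← map_inv fieldPu] at h
  exact orderOf_dvd_of_pow_eq_one (inv_eq_one.1 (conjPu_eq_fieldPu hF hn h).1)

/-- A symmetric or alternating form over the real subfield representing a graph automorphism. -/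
structure GDat (hF : Fintype.card F = q ^ 2) (n : ℕ) (F₀ : Type*) [Field F₀] where
  f : F₀ →+* F
  hfix : ∀ x, qEquiv hF x = x ↔ x ∈ f.range
  A : Cfsg.GU n F q
  D : FormData n F₀
  hσ : D.σ = RingEquiv.refl F₀
  r : URep hF f (guMat A) D.S

variable {hF : Fintype.card F = q ^ 2} {F₀ : Type*} [Field F₀] (G : GDat hF n F₀)

namespace GDat

/-- The graph automorphism. -/
noncomputable def x : MulAut (Cfsg.PSU n F q) := conjPu G.A * fieldPu (qEquiv hF)

theorem map_refl (M : Mat n F₀) : M.map G.D.σ = M := by rw [G.hσ]; rfl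

include G in
theorem map_ne_zero_two : (2 : F) ≠ 0 := by
  rw [← map_ofNat G.f 2]
  exact (map_ne_zero G.f).2 G.D.two

theorem k_mul_inv : (G.r.k : Mat n F) * ((G.r.k⁻¹ : GL (Fin n) F) : Mat n F) = 1 := by
  rw [← Units.val_mul, mul_inv_cancel, Units.val_one]

theorem k_inv_mul : ((G.r.k⁻¹ : GL (Fin n) F) : Mat n F) * (G.r.k : Mat n F) = 1 := by
  rw [← Units.val_mul, inv_mul_cancel, Units.val_one]

/-- Transport of a matrix over the subfield. -/
noncomputable def tr (M : Mat n F₀) : Mat n F :=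
  (G.r.k : Mat n F) * M.map G.f * ((G.r.k⁻¹ : GL (Fin n) F) : Mat n F)

theorem tr_mul (M N : Mat n F₀) : G.tr (M * N) = G.tr M * G.tr N := by
  rw [tr, tr, tr, Matrix.map_mul]
  simp only [Matrix.mul_assoc]
  rw [← Matrix.mul_assoc ((G.r.k⁻¹ : GL (Fin n) F) : Mat n F) (G.r.k : Mat n F), G.k_inv_mul,
    Matrix.one_mul]

theorem tr_one : G.tr 1 = 1 := by
  rw [tr, Matrix.map_one _ (map_zero G.f) (map_one G.f), Matrix.mul_one, G.k_mul_inv]

theorem tr_det (M : Mat n F₀) : (G.tr M).det = G.f M.det := by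
  rw [tr, det_mul, det_mul, mul_right_comm, ← det_mul, G.k_mul_inv, det_one, one_mul]
  exact (RingHom.map_det G.f M).symm

theorem tr_smul (c : F₀) (M : Mat n F₀) : G.tr (c • M) = G.f c • G.tr M := by
  rw [tr, tr, Matrix.map_smul' G.f c M (map_mul G.f), Matrix.mul_smul, Matrix.smul_mul]

theorem tr_eq_smul_one {M : Mat n F₀} {a : F} (h : G.tr M = a • 1) : M.map G.f = a • 1 := by
  have h1 := congrArg (fun X : Mat n F => ((G.r.k⁻¹ : GL (Fin n) F) : Mat n F) * X * (G.r.k : Mat n F)) h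
  simp only [tr, Matrix.mul_smul, Matrix.smul_mul, Matrix.mul_one, Matrix.mul_assoc, G.k_inv_mul] at h1
  rwa [← Matrix.mul_assoc, G.k_inv_mul, Matrix.one_mul] at h1

/-- An isometry of the form gives a unitary matrix commuting with the graph automorphism. -/
theorem exists_gu (hn : 3 ≤ n) (M : GL (Fin n) F₀)
    (hM : (M : Mat n F₀)ᵀ * G.D.S * (M : Mat n F₀) = G.D.S) :
    ∃ h : Cfsg.GU n F q, guMat h = G.tr (M : Mat n F₀) ∧ conjPu h * G.x = G.x * conjPu h := by
  obtain ⟨h, c, hc, hk⟩ := backward hF G.hfix G.r G.r M (w := (1 : F)) (e := 1) one_ne_zero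
    (by rw [map_one, map_one, one_mul, mul_one, mul_one]) (by rw [hM, one_smul])
  rw [one_smul] at hk
  refine ⟨h, ?_, ?_⟩
  · rw [tr, ← hk, Matrix.mul_assoc, G.k_mul_inv, Matrix.mul_one]
  · exact mul_inv_eq_iff_eq_mul.1 ((graphU_eq_iff hF hn h G.A G.A).2 ⟨c, hc⟩).symm

/-- The special isometries inside `SU`. -/
noncomputable def phi (hn : 3 ≤ n) : G.D.iso →* Cfsg.SU n F q where
  toFun s := H50.mkSU (G.tr (s.1 : Mat n F₀))
    (by
      have hs := (G.D.mem_iso s.1).1 s.2
      rw [G.map_refl] at hs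
      obtain ⟨h, hh, -⟩ := G.exists_gu hn (Matrix.SpecialLinearGroup.toGL s.1) hs
      have h1 := H50.GU_isIso h
      rw [show ((h : GL (Fin n) F) : Mat n F) = _ from hh] at h1
      exact h1)
    (by rw [G.tr_det, s.1.2, map_one])
  map_one' := H50.SU_ext G.tr_one
  map_mul' a b := H50.SU_ext (G.tr_mul (a.1 : Mat n F₀) (b.1 : Mat n F₀))

theorem suMat_phi (hn : 3 ≤ n) (s : G.D.iso) : suMat (G.phi hn s) = G.tr (s.1 : Mat n F₀) := rfl

theorem phi_comm (hn : 3 ≤ n) (s : G.D.iso) :
    MulAut.conj (umk (G.phi hn s)) * G.x = G.x * MulAut.conj (umk (G.phi hn s)) := by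
  have hs := (G.D.mem_iso s.1).1 s.2
  rw [G.map_refl] at hs
  obtain ⟨h, hh, hc⟩ := G.exists_gu hn (Matrix.SpecialLinearGroup.toGL s.1) hs
  rwa [← conjPu_suGU hF, show suGU (G.phi hn s) = h from H50.GU_ext hh.symm]

theorem phi_fix (hn : 3 ≤ n)
    (hinj : Function.Injective (MulAut.conj : Cfsg.PSU n F q → MulAut (Cfsg.PSU n F q)))
    (s : G.D.iso) : G.x (umk (G.phi hn s)) = umk (G.phi hn s) :=
  (H43.Bal.conj_mem_centralizer hinj _).1
    (Subgroup.mem_centralizer_singleton_iff.2 (G.phi_comm hn s))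

/-- The plane involution in `PSU`. -/
noncomputable def kE (hn : 3 ≤ n) (u v : Fin n → F₀) (hd : (G.D.gram u v).det ≠ 0) : Cfsg.PSU n F q :=
  umk (G.phi hn ⟨G.D.jSL u v hd, G.D.jSL_mem u v hd⟩)

/-- A vector on which a matrix over the subfield acts as `-1` lies in the span of such rational vectors. -/
theorem span_of_eigen {u v : Fin n → F₀} (hd : (G.D.gram u v).det ≠ 0) {z : Fin n → F}
    (hz : (G.D.jMat u v).map G.f *ᵥ z = -z) :
    z ∈ Submodule.span F {bv G.f u, bv G.f v} := by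
  classical
  obtain ⟨t, ht0, ht⟩ := H50.exists_trace_zero_ne_zero hF
  have ht' : qEquiv hF t = -t := by rw [qEquiv_apply]; linear_combination ht
  set J := G.D.jMat u v
  -- a fixed eigenvector is rational
  have key : ∀ w : Fin n → F, (∀ i, qEquiv hF (w i) = w i) → J.map G.f *ᵥ w = -w →
      w ∈ Submodule.span F {bv G.f u, bv G.f v} := by
    intro w hw hJ
    choose w₀ hw₀ using fun i => (G.hfix _).1 (hw i)
    have e : w = bv G.f w₀ := funext fun i => (hw₀ i).symm
    have h1 : J *ᵥ w₀ = -w₀ := by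
      funext i
      apply G.f.injective
      rw [RingHom.map_mulVec, Pi.neg_apply, map_neg]
      have := congrFun hJ i
      rw [e] at this
      exact this
    obtain ⟨a, b, hab⟩ := Submodule.mem_span_pair.1 ((G.D.jMat_fixed_iff hd w₀).1 h1)
    rw [e, ← hab, bv_add, bv_smul, bv_smul]
    exact Submodule.add_mem _ (Submodule.smul_mem _ _ (Submodule.subset_span (Set.mem_insert _ _)))
      (Submodule.smul_mem _ _ (Submodule.subset_span (Set.mem_insert_of_mem _ rfl)))
  let c : (Fin n → F) → (Fin n → F) := fun w i => qEquiv hF (w i)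
  have hc : ∀ w, J.map G.f *ᵥ w = -w → J.map G.f *ᵥ c w = -(c w) := by
    intro w hw
    have h1 : (fun i => qEquiv hF ((J.map G.f *ᵥ w) i)) = J.map G.f *ᵥ c w := by
      funext i
      rw [show qEquiv hF ((J.map G.f *ᵥ w) i) = ((J.map G.f).map (qEquiv hF) *ᵥ c w) i from
        RingHom.map_mulVec ((qEquiv hF : F ≃+* F) : F →+* F) _ _ _, map_f_fixed hF G.hfix J]
    rw [← h1, hw]
    funext i
    simp [c]
  have hqq : ∀ a, qEquiv hF (qEquiv hF a) = a := qEquiv_qEquiv hF
  have h1 := key (z + c z) (fun i => by simp [c, hqq, add_comm]) (by rw [mulVec_add, hz, hc z hz, neg_add])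
  have h2 := key (t • (z - c z)) (fun i => by simp [c, hqq, ht']; ring)
    (by rw [mulVec_smul, mulVec_sub, hz, hc z hz]; module)
  have h3 : (2 : F) • z = (z + c z) + t⁻¹ • (t • (z - c z)) := by
    rw [smul_smul, inv_mul_cancel₀ ht0, one_smul]; module
  have h4 : (2 : F) • z ∈ Submodule.span F {bv G.f u, bv G.f v} :=
    h3 ▸ Submodule.add_mem _ h1 (Submodule.smul_mem _ _ h2)
  simpa [smul_smul, inv_mul_cancel₀ G.map_ne_zero_two] using Submodule.smul_mem _ (2 : F)⁻¹ h4

/-- An automorphism of odd order fixing every plane involution is trivial. -/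
theorem eq_one_of_planes (hn : 3 ≤ n) (hs : ¬ (n = 3 ∧ q = 2)) {y : MulAut (Cfsg.PSU n F q)}
    (hy : Odd (orderOf y)) (hk : ∀ u v hd, y (G.kE hn u v hd) = G.kE hn u v hd) : y = 1 := by
  classical
  obtain ⟨j, hj⟩ := H43.Bal.exists_root hy
  set z := y ^ j with hzdef
  have hzo : Odd (orderOf z) := H43.Bal.odd_of_dvd hy (orderOf_pow_dvd (x := y) j)
  have hzk : ∀ u v hd, z (G.kE hn u v hd) = G.kE hn u v hd := fun u v hd =>
    (show Subgroup.closure {y} ≤ MulAction.stabilizer (MulAut (Cfsg.PSU n F q)) (G.kE hn u v hd) from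
      (Subgroup.closure_le _).2 (Set.singleton_subset_iff.2 (hk u v hd)))
      (pow_mem (Subgroup.subset_closure (Set.mem_singleton y)) j)
  obtain ⟨g, τ, hz⟩ := exists_decomp hF hn hs z
  set T : Cfsg.GU n F q := g * mapGU τ g with hT
  have hyT : y = conjPu T * fieldPu (τ * τ) := by
    rw [hj, hz, hT, map_mul, map_mul]
    calc conjPu g * fieldPu τ * (conjPu g * fieldPu τ)
        = conjPu g * (fieldPu τ * conjPu g) * fieldPu τ := by group
      _ = _ := by rw [fieldPu_conjPu]; group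
  set ρ : F ≃+* F := τ * τ
  have hg0 : guMat g ≠ 0 := fun e => by
    haveI : Nonempty (Fin n) := ⟨⟨0, by omega⟩⟩
    exact one_ne_zero (α := Mat n F) (by rw [← guMat_mul_inv g, e, Matrix.zero_mul])
  -- commutation with the plane involutions
  have hcomm : ∀ u v (hd : (G.D.gram u v).det ≠ 0),
      guMat T * (G.tr (G.D.jMat u v)).map ρ = G.tr (G.D.jMat u v) * guMat T := by
    intro u v hd
    set P := G.tr (G.D.jMat u v)
    have hP2 : P * P = 1 := by rw [← G.tr_mul, G.D.jMat_sq hd, G.tr_one]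
    have h1 := hzk u v hd
    rw [hz, kE, MulAut.mul_apply, fieldPu_umk, conjPu_umk, umk_eq_iff] at h1
    obtain ⟨c, -, hc⟩ := H50.scalar_of_mem_center hF (by omega) h1
    have hc' := congrArg (fun X : Mat n F => suMat (conjU g (fieldU τ (G.phi hn ⟨_, G.D.jSL_mem u v hd⟩))) * X) hc
    simp only [← H50.suMat_mul, mul_inv_cancel_left] at hc'
    simp only [suMat_conjU, G.suMat_phi, Matrix.mul_smul, Matrix.mul_one] at hc'
    have hPτ : suMat (fieldU τ (G.phi hn ⟨_, G.D.jSL_mem u v hd⟩)) = P.map τ := rfl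
    rw [hPτ] at hc'
    have hgc : c • (guMat g * P.map τ) = P * guMat g := by
      have h2 := congrArg (· * guMat g) hc'
      simp only [Matrix.smul_mul] at h2
      rw [Matrix.mul_assoc (guMat g * P.map τ), guMat_inv_mul, Matrix.mul_one] at h2
      exact h2.symm
    have hc2 : c * c = 1 := by
      have hτ2 : P.map τ * P.map τ = 1 := by
        rw [← Matrix.map_mul, hP2, Matrix.map_one _ (map_zero _) (map_one _)]
      have h2 : (c * c) • guMat g = guMat g := by
        have e1 : P * (c • (guMat g * P.map τ)) = guMat g := by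
          rw [hgc, ← Matrix.mul_assoc, hP2, Matrix.one_mul]
        rw [Matrix.mul_smul, ← Matrix.mul_assoc, ← hgc, Matrix.smul_mul, Matrix.mul_assoc, hτ2,
          Matrix.mul_one, smul_smul] at e1
        exact e1
      exact smul_left_injective F hg0 (h2.trans (one_smul F _).symm)
    have hcc : c * τ c = 1 := by
      rcases mul_self_eq_one_iff.1 hc2 with rfl | rfl <;> simp
    have h3 := congrArg (fun M : Mat n F => M.map τ) hgc
    rw [Matrix.map_smul' τ c _ (map_mul τ), Matrix.map_mul, Matrix.map_mul] at h3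
    rw [hT, show guMat (g * mapGU τ g) = guMat g * (guMat g).map τ from rfl,
      show P.map ρ = (P.map τ).map τ by ext i k; rfl, Matrix.mul_assoc]
    have h4 : P * guMat g * (guMat g).map τ = guMat g * ((guMat g).map τ * (P.map τ).map τ) := by
      rw [← hgc, Matrix.smul_mul, Matrix.mul_assoc, ← h3, Matrix.mul_smul, smul_smul, hcc, one_smul]
    rw [← h4, Matrix.mul_assoc]
  let ki : Mat n F := ((G.r.k⁻¹ : GL (Fin n) F) : Mat n F)
  let ψ : (Fin n → F₀) → (Fin n → F) := fun u =>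
    ki *ᵥ (guMat T *ᵥ fun i => ρ (((G.r.k : Mat n F) *ᵥ bv G.f u) i))
  have hadd : ∀ a b, ψ (a + b) = ψ a + ψ b := fun a b => by
    simp only [ψ, ← mulVec_add]
    congr 2
    funext i
    simp [bv_add, mulVec_add]
  have hsmul : ∀ (c : F₀) a, ψ (c • a) = ρ (G.f c) • ψ a := fun c a => by
    simp only [ψ, ← mulVec_smul]
    congr 2
    funext i
    simp [bv_smul, mulVec_smul]
  have hplane : ∀ u v (hd : (G.D.gram u v).det ≠ 0), ψ u ∈ Submodule.span F {bv G.f u, bv G.f v} := by
    intro u v hd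
    refine G.span_of_eigen hd ?_
    have h1 := (G.D.jMat_fixed_iff hd u).2 (Submodule.subset_span (Set.mem_insert _ _))
    set P := G.tr (G.D.jMat u v) with hP
    have h2 : P *ᵥ ((G.r.k : Mat n F) *ᵥ bv G.f u) = -((G.r.k : Mat n F) *ᵥ bv G.f u) := by
      rw [hP, tr, ← mulVec_mulVec, ← mulVec_mulVec]
      rw [mulVec_mulVec _ ((G.r.k⁻¹ : GL (Fin n) F) : Mat n F), G.k_inv_mul, one_mulVec, ← mulVec_neg]
      congr 1
      funext i
      have := congrArg G.f (congrFun h1 i)
      rw [RingHom.map_mulVec, Pi.neg_apply, map_neg] at this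
      exact this
    have h3 : (fun i => ρ ((P *ᵥ ((G.r.k : Mat n F) *ᵥ bv G.f u)) i)) =
        P.map ρ *ᵥ fun i => ρ (((G.r.k : Mat n F) *ᵥ bv G.f u) i) :=
      funext fun i => RingHom.map_mulVec (ρ : F →+* F) _ _ _
    have h4 : P *ᵥ (guMat T *ᵥ fun i => ρ (((G.r.k : Mat n F) *ᵥ bv G.f u) i)) =
        -(guMat T *ᵥ fun i => ρ (((G.r.k : Mat n F) *ᵥ bv G.f u) i)) := by
      rw [mulVec_mulVec, ← hcomm u v hd, ← mulVec_mulVec, ← h3, h2]
      generalize (G.r.k : Mat n F) *ᵥ bv G.f u = X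
      rw [show (fun i => ρ ((-X) i)) = -(fun i => ρ (X i)) from funext fun i => map_neg ρ _, mulVec_neg]
    show (G.D.jMat u v).map G.f *ᵥ (ki *ᵥ _) = -(ki *ᵥ _)
    rw [← mulVec_neg, ← h4, mulVec_mulVec _ _ ki, mulVec_mulVec _ ki P, hP, tr, ← Matrix.mul_assoc,
      ← Matrix.mul_assoc, show ki * (G.r.k : Mat n F) = 1 from G.k_inv_mul, Matrix.one_mul]
  have hline : ∀ u, ∃ l : F, ψ u = l • bv G.f u := by
    intro u
    rcases eq_or_ne u 0 with rfl | hu
    · refine ⟨0, ?_⟩
      rw [zero_smul]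
      have := hsmul 0 0
      rwa [zero_smul, map_zero, map_zero, zero_smul] at this
    obtain ⟨v, v', hd, hd', hv'⟩ := G.D.exists_planes hn hu
    obtain ⟨a, b, hab⟩ := Submodule.mem_span_pair.1 (hplane u v hd)
    obtain ⟨a', b', hab'⟩ := Submodule.mem_span_pair.1 (hplane u v' hd')
    refine ⟨a', ?_⟩
    rcases eq_or_ne b' 0 with hb | hb
    · rw [← hab', hb, zero_smul, add_zero]
    exfalso
    apply hv'
    rw [← G.D.jMat_fixed_iff hd]
    have hev : ∀ w, w ∈ Submodule.span F₀ ({u, v} : Set (Fin n → F₀)) →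
        (G.D.jMat u v).map G.f *ᵥ bv G.f w = -bv G.f w := fun w hw => by
      funext i
      have := congrArg G.f (congrFun ((G.D.jMat_fixed_iff hd w).2 hw) i)
      rw [RingHom.map_mulVec, Pi.neg_apply, map_neg] at this
      exact this
    have h3 : b' • bv G.f v' = (a - a') • bv G.f u + b • bv G.f v := by
      linear_combination (norm := module) hab' - hab
    have h4 := congrArg ((G.D.jMat u v).map G.f *ᵥ ·) h3
    simp only [mulVec_add, mulVec_smul, hev u (Submodule.subset_span (Set.mem_insert _ _)),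
      hev v (Submodule.subset_span (Set.mem_insert_of_mem _ rfl))] at h4
    have h5 : (G.D.jMat u v).map G.f *ᵥ bv G.f v' = -bv G.f v' := by
      apply smul_right_injective _ hb
      show b' • _ = b' • _
      rw [h4, smul_neg b' (bv G.f v'), h3]
      module
    funext i
    apply G.f.injective
    rw [RingHom.map_mulVec, Pi.neg_apply, map_neg]
    exact congrFun h5 i
  have hs1 : ∀ i : Fin n, bv G.f (Pi.single i (1 : F₀)) = Pi.single i 1 := fun i => by
    funext a; simp [bv, Pi.single_apply, apply_ite G.f]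
  obtain ⟨l, hl⟩ : ∃ l : F, ∀ i : Fin n, ψ (Pi.single i 1) = l • Pi.single i 1 := by
    obtain ⟨l, hl⟩ := hline (Pi.single ⟨0, by omega⟩ 1)
    refine ⟨l, fun i => ?_⟩
    rw [hs1] at hl
    rcases eq_or_ne i ⟨0, by omega⟩ with rfl | hi
    · exact hl
    obtain ⟨li, hli⟩ := hline (Pi.single i 1)
    obtain ⟨ls, hls⟩ := hline (Pi.single ⟨0, by omega⟩ 1 + Pi.single i 1)
    rw [hs1] at hli
    rw [hadd, hl, hli, bv_add, hs1, hs1] at hls
    have e0 := congrFun hls ⟨0, by omega⟩
    have e1 := congrFun hls i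
    simp [hi, Ne.symm hi] at e0 e1
    rw [hli, e1, ← e0]
  -- in matrix terms
  have hTk : guMat T * (G.r.k : Mat n F).map ρ = l • (G.r.k : Mat n F) := by
    refine Matrix.ext_of_mulVec_single fun i => ?_
    have h1 := congrArg ((G.r.k : Mat n F) *ᵥ ·) (hl i)
    simp only [ψ] at h1
    rw [mulVec_mulVec, show (G.r.k : Mat n F) * ki = 1 from G.k_mul_inv, one_mulVec, mulVec_smul, hs1] at h1
    rw [← mulVec_mulVec, smul_mulVec, ← h1]
    congr 1
    funext a
    rw [mulVec_single_one]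
    simp
  have hl0 : l ≠ 0 := fun e => by
    rw [e, zero_smul] at hTk
    have h1 := congrArg (guMat T⁻¹ * ·) hTk
    simp only [← Matrix.mul_assoc, guMat_inv_mul, Matrix.one_mul, Matrix.mul_zero] at h1
    have h2 := congrArg Matrix.det h1
    haveI : Nonempty (Fin n) := ⟨⟨0, by omega⟩⟩
    rw [det_zero, show ((G.r.k : Mat n F).map ρ).det = ρ (G.r.k : Mat n F).det from
      (RingHom.map_det (ρ : F →+* F) _).symm, map_eq_zero] at h2
    exact ((Matrix.isUnit_iff_isUnit_det _).1 G.r.k.isUnit).ne_zero h2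
  -- the field part fixes the subfield
  have hρ : ∀ c, ρ (G.f c) = G.f c := by
    intro c
    obtain ⟨lc, hlc⟩ := hline (c • Pi.single ⟨0, by omega⟩ 1 + Pi.single ⟨1, by omega⟩ 1)
    rw [hadd, hsmul, hl, hl, bv_add, bv_smul, hs1, hs1] at hlc
    have e0 := congrFun hlc ⟨0, by omega⟩
    have e1 := congrFun hlc ⟨1, by omega⟩
    simp [Fin.ext_iff] at e0 e1
    rw [← e1, mul_comm l] at e0
    exact mul_right_cancel₀ hl0 e0
  have hρ1 : ρ = 1 := by
    haveI : Fact (Nat.Prime 2) := ⟨Nat.prime_two⟩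
    have h1 : ρ ^ 2 = 1 := H48.Balance.pow_eq_one_of_fix (σ := qEquiv hF) (orderOf_qEquiv hF) fun a ha => by
      obtain ⟨c, rfl⟩ := (G.hfix a).1 ha
      exact hρ c
    have h2 : orderOf ρ ∣ orderOf y := by rw [hyT]; exact orderOf_field_dvd hF hn T ρ
    rcases (Nat.dvd_prime Nat.prime_two).1 (orderOf_dvd_of_pow_eq_one h1) with e | e
    · exact orderOf_eq_one_iff.1 e
    · exact absurd (e ▸ h2) hy.not_two_dvd_nat
  rw [hρ1, show (G.r.k : Mat n F).map (1 : F ≃+* F) = (G.r.k : Mat n F) from rfl] at hTk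
  have hTl : guMat T = l • 1 := by
    have h1 := congrArg (· * ki) hTk
    simp only [Matrix.mul_assoc, Matrix.smul_mul] at h1
    rwa [show (G.r.k : Mat n F) * ki = 1 from G.k_mul_inv, Matrix.mul_one] at h1
  rw [hyT, hρ1, map_one, mul_one, conjPu_eq_one_iff hF hn]
  exact ⟨Units.mk0 l hl0, Units.ext (by
    rw [GeneralLinearGroup.coe_scalar, scalar_apply, ← smul_one_eq_diagonal]; exact hTl)⟩

end GDat

end H51.SUBal
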