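import Cfsg.Agent.H51.SUBal.Field
import Cfsg.Agent.H51.SUBal.Graph
import Mathlib

/-!
Local balance in almost simple groups with unitary socle.
-/

set_option autoImplicit false

namespace H51.SUBal

open Matrix H55 H55.Psu
open H50 (suMat guMat)
open H43.PSLBal (FormData)

variable {F : Type*} [Field F] [Fintype F] {n q : ℕ} (hF : Fintype.card F = q ^ 2)
include hF

/-- The involutory case. -/
theorem graph_balance (hn : 3 ≤ n) (hG : IsSimpleGroup (Cfsg.PSU n F q)) (h2 : (2 : F) ≠ 0)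
    {g : Cfsg.GU n F q} (ho : orderOf (conjPu g * fieldPu (qEquiv hF) : MulAut (Cfsg.PSU n F q)) = 2)
    (A : Subgroup (MulAut (Cfsg.PSU n F q))) (hinn : ∀ k, MulAut.conj k ∈ A) :
    Cfsg.pPrimeCore 2 ↥(A ⊓ Subgroup.centralizer
        ({conjPu g * fieldPu (qEquiv hF)} : Set (MulAut (Cfsg.PSU n F q)))) = ⊥ ∧
      2 ∣ Nat.card ↥(MonoidHom.eqLocus (conjPu g * fieldPu (qEquiv hF) : MulAut (Cfsg.PSU n F q)).toMonoidHom
        (MonoidHom.id (Cfsg.PSU n F q))) := by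
  classical
  haveI : Finite (Cfsg.PSU n F q) := Quotient.finite _
  set σ := qEquiv hF
  letI : Fintype (fixF σ) := Fintype.ofFinite _
  have hfix : ∀ x, qEquiv hF x = x ↔ x ∈ (fixF σ).subtype.range :=
    fun x => ⟨fun h => ⟨⟨x, h⟩, rfl⟩, by rintro ⟨y, rfl⟩; exact y.2⟩
  have h20 : (2 : fixF σ) ≠ 0 := fun h => h2 (by
    have := congrArg (fixF σ).subtype h
    rwa [map_ofNat, map_zero] at this)
  have hS : ∃ S : Mat n (fixF σ), (Sᵀ = S ∨ Sᵀ = -S) ∧ S.det ≠ 0 ∧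
      Nonempty (URep hF (fixF σ).subtype (guMat g) S) := by
    rcases (graphU_order hF hn).1 ho with hs | hs
    · obtain ⟨S, hd, hSs, hr⟩ := exists_urep hF hfix g (ε := 1) (Or.inl rfl) (by rw [one_smul, hs])
      exact ⟨S, shape_of_map (Or.inl rfl) hSs, hd, hr⟩
    · obtain ⟨S, hd, hSs, hr⟩ := exists_urep hF hfix g (ε := -1) (Or.inr rfl) (by rw [neg_one_smul, hs])
      exact ⟨S, shape_of_map (Or.inr rfl) hSs, hd, hr⟩
  obtain ⟨S, hshape, hd, ⟨r⟩⟩ := hS
  have hid : ∀ M : Mat n (fixF σ), M.map (RingEquiv.refl (fixF σ)) = M := fun M => rfl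
  have fixed : ∀ G : GDat hF n (fixF σ), 2 ∣ Nat.card ↥(MonoidHom.eqLocus G.x.toMonoidHom
      (MonoidHom.id (Cfsg.PSU n F q))) := by
    intro G
    obtain ⟨u, v, hd'⟩ := G.exists_plane hn
    have h1 : G.kE hn u v hd' ∈ MonoidHom.eqLocus G.x.toMonoidHom (MonoidHom.id (Cfsg.PSU n F q)) :=
      G.phi_fix hn (conj_inj hF hn hG) _
    haveI : Fact (Nat.Prime 2) := ⟨Nat.prime_two⟩
    have ho' : orderOf (⟨_, h1⟩ : MonoidHom.eqLocus G.x.toMonoidHom (MonoidHom.id (Cfsg.PSU n F q))) = 2 :=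
      orderOf_eq_prime (Subtype.ext (by rw [SubmonoidClass.coe_pow, pow_two]; exact G.kE_sq hn u v hd'))
        (fun e => G.kE_ne_one hn u v hd' (congrArg Subtype.val e))
    exact ho' ▸ orderOf_dvd_natCard _
  rcases hshape with h | h
  · let D : FormData n (fixF σ) :=
      { σ := RingEquiv.refl _, S := S, e := 1, invol := fun _ => rfl, det := hd,
        shape := by rw [hid, h, one_smul], he := Or.inl rfl, two := h20 }
    let G : GDat hF n (fixF σ) := ⟨(fixF σ).subtype, hfix, g, D, rfl, r⟩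
    exact ⟨G.core_eq_bot_sym h hn hG A hinn, fixed G⟩
  · obtain ⟨m, hm⟩ : Even n := by
      rcases Nat.even_or_odd n with he | hodd
      · exact he
      exfalso
      have h1 := congrArg Matrix.det h
      rw [det_transpose, det_neg, Fintype.card_fin, hodd.neg_one_pow, neg_one_mul] at h1
      exact mul_ne_zero h20 hd (by linear_combination h1)
    let D : FormData n (fixF σ) :=
      { σ := RingEquiv.refl _, S := S, e := -1, invol := fun _ => rfl, det := hd,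
        shape := by rw [hid, h, neg_one_smul], he := Or.inr ⟨fun _ => rfl, rfl⟩, two := h20 }
    let G : GDat hF n (fixF σ) := ⟨(fixF σ).subtype, hfix, g, D, rfl, r⟩
    exact ⟨G.core_eq_bot_iso hn hG
      (fun N hN => D.iso_normal_alt (m := m) (by omega) (by omega) rfl h N hN) A hinn, fixed G⟩

/-- Local balance for unitary groups. -/
theorem balance (hn : 3 ≤ n) (hG : IsSimpleGroup (Cfsg.PSU n F q)) {r : ℕ} [Fact r.Prime] [CharP F r]
    (A : Subgroup (MulAut (Cfsg.PSU n F q))) (hinn : ∀ k, MulAut.conj k ∈ A)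
    (p : ℕ) [Fact p.Prime] (hpr : p ≠ r) (β : MulAut (Cfsg.PSU n F q)) (hord : orderOf β = p)
    (hnot : ¬ Cfsg.IsInnerDiagonalAutPSU β) :
    Cfsg.pPrimeCore p ↥(A ⊓ Subgroup.centralizer {β}) ≠ ⊥ ↔
      ((∃ γ φ : MulAut (Cfsg.PSU n F q), Cfsg.IsInnerDiagonalAutPSU γ ∧
          (∃ σ : F ≃+* F, Cfsg.IsFieldAutPSUOf σ φ) ∧ β = φ.trans γ) ∧
        Nat.Coprime p (Nat.card ↥(MonoidHom.eqLocus β.toMonoidHom (MonoidHom.id (Cfsg.PSU n F q))))) := by
  classical
  have hp := (Fact.out : p.Prime)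
  obtain ⟨g, σ, rfl⟩ := exists_decomp hF hn (not_32 hF hG) β
  have hex : ∃ γ φ : MulAut (Cfsg.PSU n F q), Cfsg.IsInnerDiagonalAutPSU γ ∧
      (∃ τ : F ≃+* F, Cfsg.IsFieldAutPSUOf τ φ) ∧ conjPu g * fieldPu σ = φ.trans γ :=
    ⟨conjPu g, fieldPu σ, isInnerDiagonal_iff.2 ⟨g, rfl⟩, ⟨σ, isFieldAutOf_iff.2 rfl⟩, rfl⟩
  rw [and_iff_right hex]
  have hx : (conjPu g * fieldPu σ : MulAut (Cfsg.PSU n F q)) ^ p = 1 := hord ▸ pow_orderOf_eq_one _
  have hσ1 : σ ≠ 1 := fun e => hnot (isInnerDiagonal_iff.2 ⟨g, by rw [e, map_one, mul_one]⟩)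
  have hσ : orderOf σ = p := by
    have h1 := orderOf_field_dvd hF hn g σ
    rw [hord] at h1
    exact ((Nat.dvd_prime hp).1 h1).resolve_left fun e => hσ1 (orderOf_eq_one_iff.1 e)
  rcases eq_or_ne p 2 with rfl | hp2
  · have h2 : (2 : F) ≠ 0 := fun e => hpr ((Nat.prime_dvd_prime_iff_eq (Fact.out : r.Prime) Nat.prime_two).1
      ((CharP.cast_eq_zero_iff F r 2).1 (by exact_mod_cast e))).symm
    obtain rfl := eq_qEquiv hF hσ
    obtain ⟨hcore, hdvd⟩ := graph_balance hF hn hG h2 hord A hinn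
    exact iff_of_false (not_not.2 hcore) fun hc => (Nat.prime_two.coprime_iff_not_dvd.1 hc) hdvd
  · exact field_balance hF hn hG hp2 hσ hx A hinn

end H51.SUBal
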